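import Cfsg.Agent.Lib.Co.Three
import Cfsg.Agent.Lib.Co.Obj2
import Cfsg.Agent.Lib.Fi.O3Class

/-!
The centraliser in `Co0` of an element of order three of `M24` with six fixed points acts on the
discriminant group `3^6` of its fixed lattice.
-/

set_option autoImplicit false

namespace CA.Co
open Cfsg CA.Gol CA CA.Orth CA.Fi Subgroup
open scoped Pointwise Matrix

theorem bfs_rel {P : ℕ → Prop} {rel : ℕ → ℕ → ℕ → Bool} {T0 T1 E J K N T : ℕ}
    (a0 : ∀ m m', rel T0 m m' = true → P m → P m') (a1 : ∀ m m', rel T1 m m' = true → P m → P m')
    (h0 : P (fld 16 E 0)) (h : (allLt (fun t => Nat.beq t 0 || (Nat.blt (fld 16 J t) t &&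
      rel (Bool.rec T0 T1 (tb K t)) (fld 16 E (fld 16 J t)) (fld 16 E t))) N &&
      Nat.beq (orl (fun t => Nat.pow 2 (fld 16 E t)) N) T) = true) (m : ℕ) (hm : tb T m = true) : P m := by
  rw [Bool.and_eq_true] at h
  obtain ⟨t, ht, rfl⟩ := tb_orl (beq_iff.1 h.2) hm
  clear hm
  induction t using Nat.strong_induction_on with
  | _ t ih =>
    have := allLt_iff.1 h.1 t ht
    simp only [Bool.or_eq_true, Bool.and_eq_true, beq_iff, Nat.blt_eq] at this
    rcases this with rfl | ⟨h1, h2⟩
    · exact h0
    · have := ih _ h1 (h1.trans ht)
      cases e : tb K t <;> rw [e] at h2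
      exacts [a0 _ _ h2 this, a1 _ _ h2 this]

namespace C3A

def fx : Fin 6 → ℕ := ![4, 10, 14, 17, 18, 21]
def rp : Fin 6 → ℕ := ![0, 2, 6, 7, 8, 13]
/-- the fixed points -/
def fp (i : Fin 6) : GolayPt := pt (fx i)

/-- reduction to the fixed points modulo three -/
def kp (v : LL) : Fin 6 → ZMod 3 := fun q => ((v : ZV) (fp q) : ZMod 3)

theorem fix_apply {v : LL} (hv : pmC σ • v = v) (k : ℕ) (p : GolayPt) : (v : ZV) ((σ.1 ^ k) p) = (v : ZV) p := by
  induction k with
  | zero => rfl
  | succ k ih =>
    have := congrFun (congrArg Subtype.val hv) ((σ.1 ^ (k + 1)) p)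
    rw [pmC_smul, pm, pow_succ', Equiv.Perm.mul_apply, Equiv.Perm.inv_def, Equiv.symm_apply_apply] at this
    rw [pow_succ', Equiv.Perm.mul_apply, ← this, ih]

theorem dot_mod {v w : LL} (hv : pmC σ • v = v) (hw : pmC σ • w = w) :
    (dotInt (v : ZV) w : ZMod 3) = kp v ⬝ᵥ kp w := by
  let e : Fin 6 ⊕ Fin 6 × Fin 3 → GolayPt := Sum.elim fp fun x => (σ.1 ^ (x.2 : ℕ)) (pt (rp x.1))
  have he : Function.Bijective e := by
    rw [Fintype.bijective_iff_injective_and_card]
    refine ⟨Function.Injective.of_comp (f := ix) ?_, by decide⟩
    rw [show ix ∘ e = Sum.elim (fun i => ix (fp i)) fun x => itr c x.2 (ix (pt (rp x.1))) from funext fun x => by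
      rcases x with x | x
      · rfl
      · exact ((itr_code _ _ _).symm.trans (by rw [σ, code_m24]; rfl))]
    decide +kernel
  rw [dotInt, ← he.sum_comp, Fintype.sum_sum_type, Fintype.sum_prod_type]
  simp only [e, Sum.elim_inl, Sum.elim_inr, fix_apply hv, fix_apply hw, Finset.sum_const, Finset.card_univ,
    Fintype.card_fin]
  push_cast
  simp [kp, dotProduct, show (3 : ZMod 3) = 0 from rfl]

theorem E8_fix (p : Fin 6) : pmC σ • E8 (fp p) = E8 (fp p) := by
  have : σ.1⁻¹ (fp p) = fp p := by
    rw [Equiv.Perm.inv_eq_iff_eq, ← pt_ix (σ.1 (fp p)), ← ap_code_ix, σ, code_m24]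
    revert p; decide +kernel
  refine Subtype.ext (funext fun q => ?_)
  rw [pmC_smul, pm, coe_E8, e8_apply, e8_apply]
  exact if_congr ⟨fun e => σ.1⁻¹.injective (e.trans this.symm), fun e => e ▸ this⟩ rfl rfl

theorem cent_fix' {g : Co0} (hg : g ∈ 𝐂[pmC σ]) {v : LL} (hv : pmC σ • v = v) : pmC σ • g • v = g • v := by
  rw [← mul_smul, ← mem_cent1_iff.1 hg, mul_smul, hv]

/-- the matrix of the action -/
def A (g : Co0) : Matrix (Fin 6) (Fin 6) (ZMod 3) := fun q p => -kp (g • E8 (fp p)) q

theorem A_kp {g : Co0} (hg : g ∈ 𝐂[pmC σ]) {v : LL} (hv : pmC σ • v = v) : A g *ᵥ kp v = kp (g • v) := by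
  have k : ∀ (x : LL) (q : GolayPt), dotInt (x : ZV) (g⁻¹ • E8 q : LL) = 8 * ((g • x : LL) : ZV) q := fun x q => by
    rw [← co_dot g, smul_inv_smul, coe_E8, dot_e8]
  funext q
  have h1 := dot_mod hv (cent_fix' (inv_mem hg) (E8_fix q))
  have h2 : ∀ p, kp (g⁻¹ • E8 (fp q)) p = kp (g • E8 (fp p)) q := fun p => by
    have := k (E8 (fp p)) (fp q)
    rw [dot_comm, coe_E8, dot_e8] at this
    rw [kp, kp, mul_left_cancel₀ (by norm_num) this]
  rw [k, Int.cast_mul, show ((8 : ℤ) : ZMod 3) = -1 from rfl, neg_one_mul, neg_eq_iff_eq_neg] at h1
  refine Eq.trans ?_ h1.symm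
  simp only [Matrix.mulVec, dotProduct, A, h2, mul_neg, Finset.sum_neg_distrib, mul_comm]

theorem kp_surj (x : Fin 6 → ZMod 3) : ∃ v, pmC σ • v = v ∧ kp v = x := by
  refine ⟨comb (fun p => E8 (fp p)) fun p => -((x p).val : ℤ), by rw [co_comb]; simp only [E8_fix], funext fun q => ?_⟩
  have : ∀ p q, fp q = fp p ↔ p = q := by decide
  simp only [kp, coe_comb, coe_E8, e8_apply, this, Finset.sum_apply, Pi.smul_apply, smul_eq_mul, mul_ite, mul_zero,
    Finset.sum_ite_eq', Finset.mem_univ, if_true]
  generalize x q = a
  revert a; decide

theorem A_mul {g h : Co0} (hg : g ∈ 𝐂[pmC σ]) (hh : h ∈ 𝐂[pmC σ]) (x : Fin 6 → ZMod 3) :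
    A (g * h) *ᵥ x = A g *ᵥ A h *ᵥ x := by
  obtain ⟨v, hv, rfl⟩ := kp_surj x
  rw [A_kp (mul_mem hg hh) hv, A_kp hh hv, A_kp hg (cent_fix' hh hv), mul_smul]

theorem A_one (x : Fin 6 → ZMod 3) : A 1 *ᵥ x = x := by
  obtain ⟨v, hv, rfl⟩ := kp_surj x
  rw [A_kp (one_mem _) hv, one_smul]

/-- the action on the discriminant group -/
noncomputable def th : ↥𝐂[pmC σ] →* O (sq3 6) := MonoidHom.mk'
  (fun g => O.mk' (A g).mulVecLin (A g⁻¹).mulVecLin
    (fun x => (A_mul g.2 (inv_mem g.2) x).symm.trans (by rw [mul_inv_cancel, A_one]))
    (fun x => (A_mul (inv_mem g.2) g.2 x).symm.trans (by rw [inv_mul_cancel, A_one])) fun x => by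
      obtain ⟨v, hv, rfl⟩ := kp_surj x
      rw [Matrix.mulVecLin_apply, A_kp g.2 hv, sq3_apply, sq3_apply, ← dot_mod hv hv,
        ← dot_mod (cent_fix' g.2 hv) (cent_fix' g.2 hv), co_dot])
  fun a b => O.ext (A_mul a.2 b.2)

theorem th_apply (g : ↥𝐂[pmC σ]) (x : Fin 6 → ZMod 3) : (th g).1 x = A g *ᵥ x := rfl

theorem th_eq_one {g : ↥𝐂[pmC σ]} (h : ∀ p, g.1 • E8 (fp p) = E8 (fp p)) : th g = 1 := O.ext fun x => by
  rw [th_apply, show A g = A 1 from funext fun q => funext fun p => by rw [A, A, h, one_smul], A_one]; rfl

def m3 (T : ℕ) : Matrix (Fin 6) (Fin 6) (ZMod 3) := fun q p => (fld 2 T (6 * q + p) : ZMod 3)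
def d3 (m : ℕ) : Fin 6 → ZMod 3 := fun i => (fld 2 m i : ZMod 3)
def e8c (a : ℕ) : ℕ := 0x808080808080808080808080808080808080808080808080 + 8 * 256 ^ a

theorem A_eq {g : Co0} {F : ℕ → ℕ → ℤ} (hg : Rep g F) {T : ℕ}
    (h : ∀ q p : Fin 6, (F (e8c (fx p)) (fx q) + fld 2 T (6 * q + p)) % 3 = 0) : A g = m3 T := by
  funext q p
  have e : ∀ p : Fin 6, (E8 (fp p) : ZV) = vec (e8c (fx p)) := by decide +kernel
  have e' : ∀ p : Fin 6, ix (fp p) = fx p := by decide
  rw [A, kp, hg _ _ (e p), m3, neg_eq_iff_add_eq_zero]
  beta_reduce
  rw [e', ← Int.cast_natCast, ← Int.cast_add,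
    ZMod.intCast_zmod_eq_zero_iff_dvd]
  exact Int.dvd_of_emod_eq_zero (h q p)

def rel3 (T m m' : ℕ) : Bool := allLt (fun q => Nat.beq (Nat.mod (sumLt (fun p =>
  Nat.mul (fld 2 T (Nat.add (Nat.mul 6 q) p)) (fld 2 m p)) 6) 3) (fld 2 m' q)) 6

theorem rel3_spec {T m m' : ℕ} (h : rel3 T m m' = true) : m3 T *ᵥ d3 m = d3 m' := funext fun q => by
  have := beq_iff.1 (allLt_iff.1 h q q.2)
  rw [d3, ← this, sumLt_eq, Finset.sum_range]
  show _ = ((_ % 3 : ℕ) : ZMod 3)
  rw [ZMod.natCast_mod, Nat.cast_sum, Matrix.mulVec, dotProduct]
  exact Finset.sum_congr rfl fun (p : Fin 6) _ => (Nat.cast_mul (α := ZMod 3) (fld 2 T (6 * q + p)) (fld 2 m p)).symm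

def M : ℕ := 0x81817d81818181818181817d7d81817d81818181817d81818181817d7d8181818181817d81817d818181818181817d81818181818181818181858181817d81818181817d81818181818181817d818181818181818181817d81817d817d81817d8181818181817d81818181817d818181817d81817d817d817d817d81817d818181818181818181818181818181817d7d8181817d817d7d7d818181818181817d81818181818181817d81817d8181818181817d8181818181818181817d7d81817d81818181817d818181817d818181817d817d818181818181817d817d817d817d817d81818181818181818181818181817d818181817d818181818181817d8181818181817d817d8181817d818181817d8181817d8181817d8181818181817d7d818181818181817d81818181817d7d817d8181818181818181818181818181817d8181817d81818181818581818181817d81818181818181817d818181817d7d81818181817d81818181818181817d7d8181818181818181817d81817d7d81818181818181817d81817d7d81818181817d81818181817d7d7d81817d81817d818181817d8181818181818181818181818181817d7d818181818181818181817d7d8181817d81818181818181818181817d8181818581818181817d8181818181818181817d818181817d817d817d8181817d8181818181817d8181817d81817d81817d81818181818181817d818181817d7d7d818181818181818181818181817d7d818181818181817d818181817d8181818181817d817d8181817d818181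
def N : ℕ := 0x81818181817d817d7d8181817d818181817d818181818181818181818181818181817d8181817d81817d8181817d7d817d818181817d8181817d8181818181818181818181817d7d817d818181817d7d8181817d818181818181818181817d81817d817d81818181817d818181818181817d7d818181818181818181817d7d81818181818181818181817d817d7d8181818181817d817d817d7d7d818181818181818181818181818181818181817d81818181818181817d7d7d81818181817d8181818181818181817d817d7d81817d81818181817d8181818185818181818181818181817d81818181817d81818181818181818181817d817d818181817d817d8181817d8181817d7d8181818181817d818181818181817d818181817d81817d8181817d8181818181817d81818181817d81817d81818181817d818181818181818181817d81818181818581818181817d81818181818181817d817d818181818181817d81817d7d81817d81817d81818181817d817d81818181818181818181818181818181817d81817d81817d8181817d818181817d818181817d818181818181817d8181817d817d8181817d818181817d818181817d8181818181817d818181817d817d8181817d818181818181818181818581818181817d818181818181817d7d81817d818181818181818181818181817d817d7d8181818181817d81817d818181817d81817d8181818181817d81817d7d81818181818181817d7d81818181818181818181817d817d818181817d7d818181817d81818181818181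
def oM : ℕ := 0x7c80808080807c8080808080808080808080808080807c84807c80808080808080808080847c80807c8080808080808080807c84808080848080808080808084808080808080808080807c7c8080807c80808080808080848080808080808080808080807c7c808084807c8080808080808080808080808080808080847c8080848084808080808080808080808080808480808080807c808080808080808080808080808080848480807c848080807c808080808080807c8080808080808080808080807c7c80807c8084808080808080808080808080808080808080808080807c808080808080808084808484808080808080847c80807c807c8080808080808080808080808080808080808080808080807c80808480807c807c80808080807c808080808080808080807c7c80808480808080808080808480808080808080808080847c8080848080808080808080808080808080808080807c80807c808084807c8080808080807c7c80808084808080808080807c80808080808080808084808080808080808080807c7c80807c8080808080808080808080808080808080808480807c80807c807c808080808080808080808080807c80808080808080807c807c848080808080808080808080808084808084808084807c808080808080808080808080807c808080808080808084807c7c80808080808080808080807c80808080808080807c80847c80808480808080807c8080808080808080808080808080807c7c7c80808080807c808080808080808080808080808080847c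
def oN : ℕ := 0x7c808080808084808080808080808080808080808080847c807c808080808080808080807c848080848080808080808080807c7c8080807c808080808080807c80808080808080808080847c80808084808080808080807c8080808080808080808080807c8480807c808480808080808080808080808080808080807c7c80807c807c808080808080808080808080807c80808080807c8080808080808080808080808080807c7c8080847c8080807c8080808080808084808080808080808080808080848480807c807c808080808080808080808080808080808080808080807c80808080808080807c807c7c8080808080807c84808084807c8080808080808080808080808080808080808080808080807c80807c8080848084808080808084808080808080808080807c8480807c80808080808080807c808080808080808080807c7c80807c8080808080808080808080808080808080808480807c80807c808480808080808084848080807c808080808080807c8080808080808080807c80808080808080808080848480807c8080808080808080808080808080808080807c80808480807c8084808080808080808080808080808480808080808080807c80847c808080808080808080808080807c80807c80807c807c808080808080808080808080808480808080808080807c807c84808080808080808080808084808080808080808084807c7c80807c8080808080848080808080808080808080808080807c84848080808080848080808080808080808080808080807c7c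
def d1 : ℕ := 0xae4f2ba331546c3a92db1a0445017
def E3 : ℕ := 0x5810451004009140225011a02860161008008a100040229084a086202a8095004000185006906a0082a08850a050628010004640854062408190a41048505050426005a048a046205060415051204a809180a8808640a81049200080486061802a20249081504290a0a0a82060900200a900aa009050906001002a10a0609600988090a01620606028a088a0219014900aa025106880846051406050291042a0200012908a20590080002620146012a019209820a44050905220a4201160152006a094401a4092202540582092104520542014a02520852089800950621082509900a2801a8024508a80216011506500a50022a08510449021a0264058802260a220056024609a000a5049101540528086101190660018a04540055018600960560089208260268029801250198029204a20886086804980a2101a200a6009a06820644084509110a09081a0a140099041a050a054406900816024a068104160a4801640a1208490a6005410924042500660489044a0294064208940829089109420a8406120a11052404460191028902150261044501260550060a01510984062204680928028501a109090145045808580648064102580611068404610419018905a004a109120a240059051100a9058401940494000201580981006509410a1805210168054804a40889061408a40948051802a40001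
def J3 : ℕ := 0xf400e900e700e400df00db00da00d800d600d500ce00c900c900c600c600c400c300c100c000bf00bd00b700b500b400b300b200b100b100ae00ad00ac00aa00a900a800a500a200a100a0009f009a009a00970095009400930093009200910090008e008b00870086008600850085008400830083008200820081007f007f007e007c007c007b007a00790079007700770076007500750074007200720071006e006d006c006b006b006a006a006900690068006700660065006400640063006200620061006100600060005f005f005e005d005d005b005a005900580057005600550055005400540053005300520050004f004d004d004c004c004a004a00490049004800470047004600460045004500440044004300430042004200410041003f003f003e003e003d003d003c003b003b003a0039003800380037003600360035003400340033003300320031003100300030002f002e002e002d002c002b002a00290028002800270027002600260025002500240023002200220021002100200020001f001f001e001d001d001c001c001b001b001a001a001900190018001800170016001600150014001300130012001200110011000f000e000e000d000d000c000c000b000b000a000a00090009000800080007000700060006000500050004000400030003000200020001000100000000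
def S3 : ℕ := 0x100010116000000010001011600000116011606600000000000000000000000010001011600000001000101160000011601160660000000000000000000000116011606600000011601160660000006600660000100000000000000000000000000000000000000000000000000000000000000000000000000000000000000010001011600000001000101160000011601160660000000000000000000000001000101160000000100010116000001160116066000000000000000000000011601160660000001160116066000000660066000010000000000000000000000000000000000000000000000000000000000000000000000000000000000000116011606600000011601160660000006600660000100000000000000000000011601160660000001160116066000000660066000010000000000000000000006600660000100000660066000010000000100010116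

theorem d1_in : inM24 d1 = true := by decide +kernel
theorem hM : ckM M N = true := by decide +kernel
theorem ho : ckM oM oN = true := by decide +kernel
theorem g0 : coM hM ∈ 𝐂[pmC σ] := coM_cent hM (by rw [σ, code_m24]; decide +kernel)
theorem g1 : coN 0x17176c d1_in ∈ 𝐂[pmC σ] :=
  coN_cent (by decide +kernel) d1_in (code_m24 c_in) (by decide +kernel)
theorem g2 : coM ho ∈ 𝐂[pmC σ] := coM_cent ho (by rw [σ, code_m24]; decide +kernel)

theorem vec6 (x : Fin 6 → ZMod 3) : x = ![x 0, x 1, x 2, x 3, x 4, x 5] := by
  funext i; fin_cases i <;> rfl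

theorem RN_le : RN (sq3 6) 1 ≤ th.range := by
  have st : ∀ {g : Co0} (hg : g ∈ 𝐂[pmC σ]) {T : ℕ}, A g = m3 T → ∀ m m', rel3 T m m' = true →
      refl (sq3 6) (d3 m) ∈ th.range → refl (sq3 6) (d3 m') ∈ th.range := fun {g} hg T e m m' h1 h2 => by
    rw [← rel3_spec h1, ← e, ← th_apply ⟨g, hg⟩, ← conj_refl]
    exact mul_mem (mul_mem ⟨_, rfl⟩ h2) (inv_mem ⟨_, rfl⟩)
  have h1 : inM24 oneC = true := by decide +kernel
  have hs : isCode 0xd9a9bf = true := by decide +kernel
  have key := bfs_rel (P := fun m => refl (sq3 6) (d3 m) ∈ th.range) (E := E3) (J := J3)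
    (K := 0x9e340a2d374acad6cd6c1535aadb54ea955554a9295a155552aab356aaaaaa8) (N := 252) (T := S3)
    (st g0 (A_eq (T := 0xa900aa82a22aa81a84) (rep_coM hM) (by decide +kernel)))
    (st g1 (A_eq (T := 0x100020080400008001) (rep_coN (by decide +kernel) d1_in) (by decide +kernel)))
    ⟨⟨_, coN_cent hs h1 (code_m24 c_in) (by decide +kernel)⟩, O.ext fun x => by
      rw [th_apply, A_eq (T := 0x400100040010004002) (rep_coN hs h1) (by decide +kernel), refl_apply, sq3_apply, polar_sq3,
        show d3 (fld 16 E3 0) ⬝ᵥ d3 (fld 16 E3 0) = 1 by decide +kernel, div_one, vec6 x]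
      generalize x 0 = a, x 1 = b, x 2 = c, x 3 = d, x 4 = e, x 5 = f
      revert a b c d e f
      decide +kernel⟩ (by decide +kernel)
  refine (closure_le _).2 ?_
  rintro _ ⟨v, hv, rfl⟩
  have : ∀ a b c d e f : ZMod 3, ![a, b, c, d, e, f] ⬝ᵥ ![a, b, c, d, e, f] = 1 →
      tb S3 (a.val + 4 * b.val + 16 * c.val + 64 * d.val + 256 * e.val + 1024 * f.val) = true ∧
      d3 (a.val + 4 * b.val + 16 * c.val + 64 * d.val + 256 * e.val + 1024 * f.val) = ![a, b, c, d, e, f] := by
    decide +kernel
  rw [sq3_apply, vec6 v] at hv
  obtain ⟨a1, a2⟩ := this _ _ _ _ _ _ hv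
  rw [vec6 v, ← a2]
  exact key _ a1

/-- nine elements of the kernel -/
noncomputable def ke (x : Fin 3 × Fin 3) : ↥𝐂[pmC σ] :=
  ⟨coM ho, g2⟩ ^ (x.1 : ℕ) * ⟨pmC σ, self_mem_cent1 _⟩ ^ (x.2 : ℕ)

theorem ke_mem (x : Fin 3 × Fin 3) : ke x ∈ th.ker :=
  mul_mem (pow_mem (O.ext fun x => by
    rw [th_apply, A_eq (T := 0x400100040010004001) (rep_coM ho) (by decide +kernel), show m3 0x400100040010004001 = 1 by decide +kernel,
      Matrix.one_mulVec]; rfl) _) (pow_mem (th_eq_one E8_fix) _)

theorem order : orderOf σ = 3 := order_m24 c_in Nat.prime_three (by decide +kernel)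

theorem ke_E8 (x : Fin 3 × Fin 3) : (((ke x).1 • E8 (fp 0) : LL) : ZV) =
    vec (![e8c 4, 0x80808080808080808080807c80807c80807c807c80808080, 0x808080808080808080808084808084808084807c80808080] x.1) := by
  have e : ∀ k : ℕ, pmC σ ^ k • E8 (fp 0) = E8 (fp 0) := fun k => by
    induction k with
    | zero => simp
    | succ k ih => rw [pow_succ, mul_smul, E8_fix, ih]
  have e0 : (E8 (fp 0) : ZV) = vec (e8c 4) := by decide +kernel
  have e1 : ((coM ho • E8 (fp 0) : LL) : ZV) = vec 0x80808080808080808080807c80807c80807c807c80808080 :=
    (rep_coM ho _ _ e0).trans (by decide +kernel)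
  rw [ke, coe_mul, coe_pow, coe_pow, mul_smul, e]
  obtain ⟨i, j⟩ := x
  fin_cases i
  · simpa using e0
  · simpa using e1
  · show ((coM ho ^ 2 • E8 (fp 0) : LL) : ZV) = vec 0x808080808080808080808084808084808084807c80808080
    rw [pow_two, mul_smul]
    exact (rep_coM ho _ _ e1).trans (by decide +kernel)

theorem ke_inj : Function.Injective ke := fun x y e => by
  have h1 : x.1 = y.1 := by
    have := (ke_E8 x).symm.trans (e ▸ ke_E8 y)
    revert this
    generalize x.1 = i, y.1 = j
    revert i j
    decide +kernel
  refine Prod.ext h1 (Fin.ext ?_)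
  rw [ke, ke, h1, mul_left_cancel_iff, Subtype.ext_iff, coe_pow, coe_pow] at e
  have ho : orderOf (pmC σ) = 3 := (orderOf_injective pmC pmC_injective σ).trans order
  exact pow_injOn_Iio_orderOf (by rw [ho]; exact x.2.2) (by rw [ho]; exact y.2.2) e

def WT : ℕ := 0x808080808080808080848080808480808080808080808080808084808080808080808080808080808080808480808080808080808084808080808080808080808080808480808080808080808080848080808080808080808080808480808080808080808080808080848080808080808080808480808080808080808080808080808080808480808080808480808080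

/-- six minimal vectors -/
noncomputable def W : Fin 6 → LL := tv 6 WT

theorem coe_W (i : Fin 6) : (W i : ZV) = vec (fld 192 WT i) := coe_lv (by revert i; decide +kernel)

theorem W_spec : (∀ i, pmC σ • W i = W i ∧ sqNorm (W i : ZV) = 32 ∧ dotInt (W i : ZV) (W 0) ≠ 0) ∧
    E8 (fp 0) = W 0 + W 1 - W 5 ∧ ∀ i : Fin 5, E8 (fp i.succ) = W i.castSucc + W i.castSucc - E8 (fp 0) := by
  have e := coe_W
  refine ⟨fun i => ⟨ckI_spec (by rw [σ, code_m24]; revert i; decide +kernel) (e i), ?_, ?_⟩, Subtype.ext ?_,
    fun i => Subtype.ext ?_⟩
  · rw [e, norm_vec]; revert i; decide +kernel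
  · rw [e, e, dot_vec]; revert i; decide +kernel
  · rw [AddSubgroupClass.coe_sub, AddSubgroup.coe_add, e, e, e]; decide +kernel
  · rw [AddSubgroupClass.coe_sub, AddSubgroup.coe_add, e]; revert i; decide +kernel

theorem fix_E8 {g : Co0} (h0 : g • W 0 = W 0) (h : ∀ i, Cg (g • W i : LL) (W i)) (p : Fin 6) :
    g • E8 (fp p) = E8 (fp p) := by
  obtain ⟨h1, h2, h3⟩ := W_spec
  have k : ∀ i, g • W i = W i := fun i => by
    rcases (h i).eq_or (W i).2 (by rw [co_norm, (h1 i).2.1]; norm_num) (by rw [(h1 i).2.1]; norm_num) with e | e
    · exact Subtype.ext e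
    · have := co_dot g (W i) (W 0)
      rw [e, h0, dot_neg_left] at this
      exact absurd (by omega) (h1 i).2.2
  have k0 : g • E8 (fp 0) = E8 (fp 0) := by rw [h2, co_sub, co_add, k, k, k]
  refine Fin.cases k0 (fun i => ?_) p
  rw [h3, co_sub, co_add, k, k0]

end C3A

end CA.Co
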