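import Cfsg.Agent.Lib.Co.C7

/-!
An involution inverting the element of order seven is conjugate to a sign change.
-/

set_option autoImplicit false

namespace CA.Co.C7
open Cfsg CA.Gol CA Subgroup

def hM' : ℕ := 0x7e827e80808082807e827e7e8082808280827e807e7e82827e7e82808080828082828282807e807e807e7e807e7e8282808080827e82807e8080807c7e807e7c82808082808080808282828080807e8082827e7e807e8082807e82807e7e7e828080807e7e7e807e7c808080827c82808280808280808080808080827e82807e808080847e807e848280808280808080808080827e82808280808080828082807e8080827c848080827e7e8080807e807e8282828082807e808282807e7e7e828080807e7e7e807e8480808082848280828080828080808082827e808080828082827e82807e807e80828280828282827e82828080807e807e827e828082807e807e7e8082827e8280808082827e8482808080807e8082808280808280807c808480807e7e7e8082808080807e807e807e807c8280808080808080827e7e807e808480807e8082807e80807e8080807c7c80807e7e7e8082808080807e807e807e808482808080807e7e7e8080807e808282827e807e808280827e8082827e8280808482827e807e8080808082807e807e84808280808080827e8280808082807e82827e80828082807e828082828282808080827e82808280808080828082807e808082847c8080807c807e8282807e80807c807e8082807e808082808080808084807e8282807e808084807e8082807e80808280808080808080827e7e807e807c80807e8082807e80807e8080808480808082827e7c82808080807e808280828080828080848080807c82827e807e8080808082807e807e7c808280808080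
def hN' : ℕ := 0x7e7e80828080808280827e8084807c7e8082808080808080827e80828080807e808282808080807e807e807c848080807e8280828080807e807e82808080807e848280808080807c808082807e8282807e8080827e827e808280827e7e82828280807e807e7e7e807e8080827e7e7e8082807e82827e8282808082807e8282807e80807e7e7e7e807e808282827e7e7e8282807e8080807e80827e848080807e8082808080807c8080807e807e7e82807e808082827e82807e80827e7e7e827e7e8280827c80807e84827e8080808082807e8080808080808282808280808082808282808084808280828080807c80807e82807e80808082807e7e80808080828082807c848080807e827c7e80848082808282808080807e807e80808080808080807e80827e82808280807e7e7e7e808280827e7e7e7e82827e807e7c808082847e82808080807e808280808080808080807e80827e8280828080827e827e807e8082828282827e827e7c828084807e807e7e808080808280828080808080808080828082827e80828080827e7e7e807e807e7e7e7e827e827e807e8080808280827e8080808082847e80808080807c7e7e80828080808280827e807c80847e8082808080808080808082808282828082808082827e828082808282827e82827e7e807e80807c7e808282808080808280828480808080807e7e807e8080847e808282808080808280827c80808080808282807e8080807e80827e7c8080807e8082808080808480828280828080808280828280807c80828082808080848080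

theorem hh : ckM hM' hN' = true := by decide +kernel

theorem exists_sign : ∃ (h : Co0) (s : Finset GolayPt), s ∈ CW ∧
    h⁻¹ * sgC s * h * pmC σ = (pmC σ)⁻¹ * (h⁻¹ * sgC s * h) := by
  have h1 : inM24 oneC = true := by decide +kernel
  have e := mul_eq_of_rep (rep_coM hh) (rep_coM hn) (rep_coN (s := 0x6d4ee) (by decide +kernel) h1) (rep_coM hh)
    (by decide +kernel)
  rw [coN, show m24 h1 = 1 from Subtype.ext (code_inj (by rw [code_m24, coe_one, code_one])), inv_one, map_one,
    mul_one] at e
  refine ⟨coM hh, _, fs_mem_CW (m := 0x6d4ee) (by decide +kernel), ?_⟩
  rw [mul_assoc _ (sgC _), ← e, inv_mul_cancel_left, n_inv]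

end CA.Co.C7
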