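import Cfsg.Agent.Lib.Co.CTb

/-!
The octad stabiliser, traces, eigenvectors of sign changes, and the standard extraspecial subgroup of `Co₁`.
-/

set_option autoImplicit false

namespace CA.Co
open Cfsg CA.Gol CA CA.Ex2 CA.Orth Subgroup QuadraticMap
open scoped Matrix Pointwise

/-- the stabiliser of the standard octad -/
def SO : Subgroup (Equiv.Perm GolayPt) := M24 ⊓ MulAction.stabilizer _ (fs O0)

theorem mem_SO {g : Equiv.Perm GolayPt} : g ∈ SO ↔ g ∈ M24 ∧ g • fs O0 = fs O0 := Iff.rfl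

/-- membership test -/
def inSO (c : ℕ) : Bool := inM24 c && Nat.beq (apM c O0) O0

theorem perm_mem_SO {c : ℕ} (h : inSO c = true) : perm c ∈ SO := by
  rw [inSO, Bool.and_eq_true, beq_iff] at h
  exact ⟨perm_mem_M24 h.1, (smul_fs_eq_iff _ O0_lt O0_lt).2 (by rw [code_perm' h.1, h.2])⟩

theorem membSO (c : ℕ) (h : inSO c = true) : ∃ t ∈ SO, code t = c :=
  ⟨perm c, perm_mem_SO h, code_perm' (Bool.and_eq_true _ _ ▸ h).1⟩

/-- a level of the chain -/
def SL1 : Lev := (23, [(0, 0x3d905ca246bac63a9289d6f408c45), (1, 0xad147ce35939ac558d03906911417), (2, 0x11154ada2b3de0c6cd2833cb20b803), (3, 0x1aaab4ca346dccc820963bc13708a1), (5, 0x2beb454aec3b9a99ae04b222618041), (14, 0x758886be35588ec92a899987005c25), (17, 0x8c2b4549cc3ddb6419e44ccab10460), (23, 0xbdab49ca307b9ac5a928398a418820)])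
/-- a level of the chain -/
def SL2 : Lev := (0, [(0, 0xbdab49ca307b9ac5a928398a418820), (1, 0xba58d35636789529d2083ac0470ca1), (2, 0xbb6693ca30a0c88629eba99d628402), (3, 0xbceb0958ac7b8f46a8895982810223), (5, 0xbaacda1e2c4ba647d5683485018025), (14, 0xbbc9499c095c655b29106984c184ae), (17, 0xbb2aa9c9d648090698e87d02b28871)])
/-- a level of the chain -/
def SL3 : Lev := (1, [(1, 0xbdab49ca307b9ac5a928398a418820), (2, 0xbcaa65242778e905a2d3635c42c440), (3, 0xbd1877aa33838866a648b54ab10460), (5, 0xba6af44c506c68b3d952618640b8a0), (14, 0xbbd349c8b03897553584b2066885c0), (17, 0xb9ad222dd0405afa292c9d46711620)])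
/-- a level of the chain -/
def SL4 : Lev := (2, [(2, 0xbdab49ca307b9ac5a928398a418820), (3, 0xbd24f3aa33b39664558d8244428c20), (5, 0xbc24fb2e3338949aa08da19cc19420), (14, 0xbd266448475c58453e154d8ad1b820), (17, 0xba164b3c7463ab26993351cb014420)])
/-- a level of the chain -/
def SL5 : Lev := (3, [(3, 0xbdab49ca307b9ac5a928398a418820), (5, 0xb91ec51876439a79ae55a263028820), (14, 0xbb1aa24c68a4567abd26b40b270820), (17, 0xb9128a1dd660da6ac97353cb088820)])
/-- a level of the chain -/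
def SL6 : Lev := (4, [(4, 0xbdab49ca307b9ac5a928398a418820), (6, 0xbce8d549c7216ab45a0c4be2618820), (7, 0xbd5f04a1c6b166c911ab5522718820), (8, 0xbac8a69dd2a159333d3585a2818820), (9, 0xbbeb23b5ca6169682d0434e2918820), (10, 0xbbec66acb4ac52c41e72241ca18820), (11, 0xba1b4255cc516469a5e7b422b18820), (12, 0xbca0fb4dcb49507aaa862362c18820), (13, 0xb9166425d0996d4554ef9322d18820), (15, 0xba4eca91d491550b216d99a2f18820), (16, 0xbd987929cda948f4ccd442e3018820), (18, 0xbae703bcac245144b6caa99d218820), (19, 0xb9944a31d5694e85c2d27a63318820), (20, 0xba613220aa3c5f25d4cc6d9d418820), (21, 0xb990f640a75466db512492dd518820), (22, 0xbb54c79cb044486aae534d1d618820)])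
/-- a level of the chain -/
def SL7 : Lev := (5, [(5, 0xbdab49ca307b9ac5a928398a418820), (14, 0xbc12ba18ad946c79b11553dc418820), (17, 0xbb5135bdd63160aa1ea964a2418820)])

theorem chainS : Chain SO [] [SL1, SL2, SL3, SL4, SL5, SL6, SL7] :=
  chain_cons membSO O0 (by decide +kernel) (fun _ hg _ => hg.2) <|
  chain_cons membSO O0 (by decide +kernel) (fun _ hg _ => hg.2) <|
  chain_cons membSO O0 (by decide +kernel) (fun _ hg _ => hg.2) <|
  chain_cons membSO O0 (by decide +kernel) (fun _ hg _ => hg.2) <|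
  chain_cons membSO O0 (by decide +kernel) (fun _ hg _ => hg.2) <|
  chain_cons membSO (Nat.xor O0 16777215) (by decide +kernel)
    (fun _ hg _ => by rw [fs_compl, smul_sdiff, smul_univ, (mem_SO.1 hg).2]) <|
  chain_cons membSO O0 (by decide +kernel) (fun _ hg _ => hg.2) fun g hg hf => chain7 g hg.1 hf

theorem card_SO : Nat.card SO = 322560 := by
  have := chainS.card
  rw [fixer_nil] at this
  rw [this]; decide +kernel

theorem SO_le {K : Subgroup (Equiv.Perm GolayPt)} (h : ∀ g ∈ SO, orderOf g = 3 → g ∈ K) : SO ≤ K := by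
  rw [← fixer_nil SO]
  refine chainS.le_of_transversals fun L hL e he => ?_
  have k : allL [SL1, SL2, SL3, SL4, SL5, SL6, SL7] (fun L => allL L.2 fun e =>
    Nat.beq e.2 oneC || (inSO e.2 && ordIs e.2 3)) = true := by decide +kernel
  have := allL_iff.1 (allL_iff.1 k L hL) e he
  rw [Bool.or_eq_true, beq_iff, Bool.and_eq_true] at this
  rcases this with e1 | ⟨e1, e2⟩
  · exact ⟨1, one_mem _, e1 ▸ code_one⟩
  · obtain ⟨t, ht, e3⟩ := membSO _ e1
    exact ⟨t, h t ht ((ordIs_iff Nat.prime_three).1 (e3 ▸ e2)), e3⟩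

/-- eight times the matrix of an automorphism -/
def matC (g : Co0) : Matrix GolayPt GolayPt ℤ := fun p q => (g • E8 q : LL).1 p

theorem matC_mulVec (g : Co0) (v : LL) : matC g *ᵥ (v : ZV) = (8 : ℤ) • ((g • v : LL) : ZV) := by
  have : (8 : ℤ) • v = ∑ q, v.1 q • E8 q := Subtype.ext (funext fun p => by
    simp [Finset.sum_apply, e8_apply, mul_comm, -Fintype.sum_option])
  rw [← AddSubgroup.coe_zsmul, ← co_zsmul, this, show g • ∑ q, v.1 q • E8 q = _ from map_sum (coHom g) _ _]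
  funext p
  simp only [Matrix.mulVec, dotProduct, matC, AddSubmonoidClass.coe_finsetSum, Finset.sum_apply, map_zsmul,
    AddSubgroup.coe_zsmul, Pi.smul_apply, smul_eq_mul, mul_comm]
  rfl

theorem matC_mul (g h : Co0) : matC g * matC h = (8 : ℤ) • matC (g * h) := by
  ext p r
  have := congrFun (matC_mulVec g (h • E8 r)) p
  rw [← mul_smul] at this
  exact this

/-- eight times the trace -/
def trC (g : Co0) : ℤ := (matC g).trace

theorem trC_comm (g h : Co0) : trC (g * h) = trC (h * g) := by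
  have := Matrix.trace_mul_comm (matC g) (matC h)
  rw [matC_mul, matC_mul, Matrix.trace_smul, Matrix.trace_smul] at this
  exact mul_left_cancel₀ (by norm_num : (8 : ℤ) ≠ 0) this

theorem trC_conj (g h : Co0) : trC (g * h * g⁻¹) = trC h := by rw [trC_comm, inv_mul_cancel_left]

theorem trC_neg (g : Co0) : trC (negC * g) = -trC g := by
  simp [trC, Matrix.trace, matC, mul_smul, negC_smul]

theorem sgC_E8 {c : Finset GolayPt} (hc : c ∈ CW) (p : GolayPt) : sgC c • E8 p = if p ∈ c then -E8 p else E8 p := by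
  have := mono_E8 hc 1 p
  rw [map_one, mul_one] at this
  refine Subtype.ext (this.trans ?_)
  show (if p ∈ c then -1 else 1 : ℤ) • e8 p = _
  split_ifs <;> simp

theorem trC_sgC {c : Finset GolayPt} (hc : c ∈ CW) : trC (sgC c) = 192 - 16 * c.card := by
  have : ∀ p, matC (sgC c) p p = 8 - 16 * iz c p := fun p => by
    rw [matC, sgC_E8 hc, iz]; split_ifs <;> simp [e8_apply]
  simp [trC, Matrix.trace, this, ← Finset.mul_sum, sum_iz, -Fintype.sum_option]

theorem cent_lift {c : Finset GolayPt} (hc : c ∈ CW) (h12 : c.card ≠ 12) {g : Co0}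
    (h : (g : Spor.Co1) ∈ 𝐂[((sgC c : Co0) : Spor.Co1)]) : g ∈ 𝐂[sgC c] := by
  rcases mk_eq_iff.1 (conj_eq_iff_mem_cent1.2 h).symm with e | e
  · exact conj_eq_iff_mem_cent1.1 e
  · have := trC_conj g (sgC c)
    rw [show g * sgC c * g⁻¹ = _ from e, trC_neg, trC_sgC hc] at this
    omega

theorem mk_mem_cent {g h : Co0} (e : g ∈ 𝐂[h]) : (g : Spor.Co1) ∈ 𝐂[(h : Spor.Co1)] :=
  mem_cent1_iff.2 (congrArg (QuotientGroup.mk : Co0 → Spor.Co1) (mem_cent1_iff.1 e))

theorem eq_e8_of_supp {v : ZV} (hn : sqNorm v = 64) {p : GolayPt} (h : ∀ q ≠ p, v q = 0) : v = e8 p ∨ v = -e8 p := by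
  rw [sqNorm, Finset.sum_eq_single p (fun q _ hq => by rw [h q hq]; rfl) (by simp)] at hn
  have : ∀ k : ℤ, v p = 8 * k → v = k • e8 p := fun k e => funext fun q => by
    rw [Pi.smul_apply, e8_apply]; split_ifs with h1
    · rw [h1, e, smul_eq_mul, mul_comm]
    · rw [h q h1, smul_zero]
  rcases sq_eq_sq_iff_eq_or_eq_neg.1 (hn.trans (by norm_num : (64 : ℤ) = 8 ^ 2)) with e | e
  · exact Or.inl (by simpa using this 1 e)
  · exact Or.inr (by simpa using this (-1) (by rw [e]; rfl))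

theorem eig_apply {c d : Finset GolayPt} (hc : c ∈ CW) (hd : d ∈ CW) {g : Co0} (e : sgC c * g = g * sgC d)
    (p q : GolayPt) (h : ¬ (p ∈ d ↔ q ∈ c)) : (g • E8 p : LL).1 q = 0 := by
  have h1 := congrFun (sgC_smul hc (g • E8 p)) q
  rw [← mul_smul, e, mul_smul, sgC_E8 hd, sg] at h1
  by_cases h2 : p ∈ d
  · rw [if_pos h2, if_neg fun h3 => h (by simp [h2, h3]), co_neg] at h1
    exact neg_eq_self.1 h1
  · rw [if_neg h2, if_pos (by_contra fun h3 => h (by simp [h2, h3]))] at h1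
    exact neg_eq_self.1 h1.symm

theorem norm_smul_E8 (g : Co0) (p : GolayPt) : sqNorm ((g • E8 p : LL) : ZV) = 64 := by rw [co_norm, coe_E8, norm_e8]

theorem mem_N0_of_e8 {g : Co0} {p q : GolayPt} (h : ((g • E8 p : LL) : ZV) = e8 q ∨ ((g • E8 p : LL) : ZV) = -e8 q) :
    g ∈ N0 := (mem_N0_iff p q).2 (by
  rcases h with h | h
  · exact Cg.of_eq h
  · exact h ▸ cg_neg (e8_mem q))

theorem mem_N0_of_norm {g : Co0} (h : ∀ c ∈ CW, ∃ d ∈ CW, sgC c * g = g * sgC d) : g ∈ N0 := by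
  obtain ⟨q, hq⟩ : ∃ q, (g • E8 (pt 0) : LL).1 q ≠ 0 := by
    by_contra h0
    have := norm_smul_E8 g (pt 0)
    rw [show ((g • E8 (pt 0) : LL) : ZV) = 0 from funext fun q => by_contra fun h1 => h0 ⟨q, h1⟩] at this
    simp [sqNorm] at this
  refine mem_N0_of_e8 (eq_e8_of_supp (norm_smul_E8 g (pt 0)) (p := q) fun r hr => ?_)
  obtain ⟨c, hc, h1, h2⟩ := exists_CW_sep hr
  obtain ⟨d, hd, e⟩ := h c (mem_octads.1 hc).1
  refine eig_apply (mem_octads.1 hc).1 hd e _ _ fun h3 => hq (eig_apply (mem_octads.1 hc).1 hd e _ _ fun h4 => ?_)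
  exact h2 (h4.1 (h3.2 h1))

theorem mem_N1_of_norm {x : Spor.Co1} (h : x ∈ 𝐍(E1)) : x ∈ N1 := by
  obtain ⟨g, rfl⟩ := QuotientGroup.mk_surjective x
  refine mk_mem_N1.2 (mem_N0_of_norm fun c hc => ?_)
  obtain ⟨d, hd, e⟩ := mem_E1.1 ((mem_normalizer_iff.1 (inv_mem h) _).1 (mem_E1.2 ⟨c, hc, rfl⟩))
  have e' : ((sgC d : Co0) : Spor.Co1) = (g⁻¹ * sgC c * g : Co0) := by rw [← e, inv_inv]; rfl
  rcases mk_eq_iff.1 e' with e | e
  · exact ⟨d, hd, by rw [← e]; group⟩
  · exact ⟨_, compl_mem_CW hd, by rw [← negC_mul_sgC hd, ← e]; group⟩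

theorem norm_E1 : 𝐍(E1) = N1 := le_antisymm (fun _ => mem_N1_of_norm) E1_normalIn.2

/-- the sign part of the standard extraspecial group -/
def cw (m : ℕ) : ℕ := xorSel 0x7dbfd0000000000000000000000000293e003da1004cac805d1440 m 9
/-- the index of the translation part -/
def tI (m : ℕ) : ℕ := Nat.land (Nat.shiftRight m 4) 15
/-- the translations -/
def tq (i : ℕ) : ℕ := fld 120 0xbd6cb22627638cfa224a834b318820bc0ea332364b892451ebaccad18820bb4c93ae2453ac893e8c9d4b018820bcc8cb2a265b8f47c9096c0b518820ba64d4562f83a87312d362caa18820bb1f3a4232ab916218ed4a8ab18820bae957b6289ba44b1cd0524ac18820ba91094e346b9e63d8955b0a918820ba1474922b3398d85676a3cb218820bd17661a2a23933ac1a7448af18820bbd8459e29b39559b606920b418820bc92655a2c3b9706cea47d0a818820b926faa22da3a0b6255231cb618820b99b28523343aaa4b16f258a718820b9e086be3593a6952d94b10a618820bdab49ca307b9ac5a928398a418820 i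
/-- the permutation part of the standard extraspecial group -/
def tp (m : ℕ) : ℕ := tq (tI m)

theorem cw_xor (a b : ℕ) : cw (Nat.xor a b) = Nat.xor (cw a) (cw b) := xorSel_xor _ a b 9

theorem tI_lt (m : ℕ) : tI m < 16 := Nat.lt_succ_of_le Nat.and_le_right

theorem mr_Phi {m : ℕ} (hm : m < 512) : MR (mo (cw m) (tp m)) (cw m) (tp m) :=
  mr_mo (allLt_iff.1 (by decide +kernel : allLt (fun m => isCode (cw m)) 512 = true) m hm)
    (allLt_iff.1 (by decide +kernel : allLt (fun m => inM24 (tq m)) 16 = true) _ (tI_lt m))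

theorem Phi_check {a b : ℕ} (ha : a < 512) (hb : b < 512) :
    cw (hm a b) = Nat.xor (cw a) (apM (tp a) (cw b)) ∧ tp (hm a b) = mul (tp a) (tp b) := by
  have k0 : ∀ x y, tI (Nat.xor x y) = Nat.xor (tI x) (tI y) := fun x y => by
    show ((x ^^^ y) >>> 4) &&& 15 = ((x >>> 4) &&& 15) ^^^ ((y >>> 4) &&& 15)
    rw [Nat.shiftRight_xor_distrib, Nat.and_xor_distrib_right]
  have k1 : allLt (fun a => force (Nat.mul 16 (tI a)) fun i => (tb a 4 == tb i 4) && (tb a 5 == tb i 5) &&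
    (tb a 6 == tb i 6) && (tb a 7 == tb i 7)) 512 = true := by decide +kernel
  have k2 : allLt (fun i => force (tq i) fun t => allLt (fun j => Nat.beq (tq (Nat.xor i j)) (mul t (tq j))) 16 &&
    allLt (fun b => Nat.beq (cw (Nat.xor b (sC (bt (Nat.mul 16 i) b) 256))) (apM t (cw b))) 512) 16 = true := by
    decide +kernel
  simp only [allLt_iff, force_eq, Bool.and_eq_true, beq_iff, beq_iff_eq] at k1 k2
  have k3 : bt (Nat.mul 16 (tI a)) b = bt a b := by
    rw [bt, bt, (k1 a ha).1.1.1, (k1 a ha).1.1.2, (k1 a ha).1.2, (k1 a ha).2]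
  have k4 : tI (hm a b) = Nat.xor (tI a) (tI b) := by
    rw [hm, k0, k0, show tI (sC (bt a b) 256) = 0 by cases bt a b <;> rfl]
    exact congrArg _ (Nat.xor_zero _)
  refine ⟨?_, by rw [tp, k4, (k2 _ (tI_lt a)).1 _ (tI_lt b), tp, tp]⟩
  have k5 := (k2 _ (tI_lt a)).2 b hb
  rw [k3] at k5
  rw [tp, ← k5]
  exact cw_xor _ _

attribute [irreducible] cw tq tI tp

/-- the standard extraspecial group in `Co₀` -/
noncomputable def Phi : Hs →* Co0 := MonoidHom.mk' (fun x => mo (cw (nH x)) (tp (nH x))) fun x y => by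
  have := mr_Phi (nH_lt (x * y))
  rw [nH_mul, (Phi_check (nH_lt x) (nH_lt y)).1, (Phi_check (nH_lt x) (nH_lt y)).2] at this
  rw [nH_mul, (Phi_check (nH_lt x) (nH_lt y)).1, (Phi_check (nH_lt x) (nH_lt y)).2]
  exact this.eq ((mr_Phi (nH_lt x)).mul (mr_Phi (nH_lt y)))

theorem mr_dH {m : ℕ} (hm : m < 512) : MR (Phi (dH m)) (cw m) (tp m) := by
  have := mr_Phi hm
  rwa [← nH_dH hm, show mo _ _ = Phi (dH m) from rfl, nH_dH hm] at this

/-- the standard extraspecial group in `Co₁` -/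
noncomputable def i0 : Hs →* Spor.Co1 := (QuotientGroup.mk' _).comp Phi

theorem i0_apply (x : Hs) : i0 x = (Phi x : Spor.Co1) := rfl

theorem i0_inj : Function.Injective i0 := (injective_iff_map_eq_one _).2 fun x hx => by
  obtain ⟨m, hm, rfl⟩ := dH_surj x
  have h1 := (mr_dH hm).of_mk_eq mr_one hx
  have k : allLt (fun m => Nat.beq m 0 || !(eqc (cw m) 0 && Nat.beq (tp m) oneC)) 512 = true := by decide +kernel
  have := allLt_iff.1 k m hm
  rw [h1, Bool.not_true, Bool.or_false, beq_iff] at this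
  rw [this, dH_zero]

/-- the sign change on the standard octad -/
noncomputable def eps : Co0 := sgC (fs O0)

theorem O0_CW : fs O0 ∈ CW := (mem_octads.1 O0_mem).1
theorem mr_eps : MR eps O0 oneC := mr_sg (by decide +kernel)
theorem i0_zs : i0 zs = (eps : Spor.Co1) := by
  rw [← dH_256]; exact (mr_dH (by norm_num)).mk_eq mr_eps (by decide +kernel)

theorem cent_eps {g : Co0} : (g : Spor.Co1) ∈ 𝐂[i0 zs] ↔ g ∈ 𝐂[eps] := by
  rw [i0_zs]
  exact ⟨cent_lift O0_CW (by rw [(mem_octads.1 O0_mem).2]; norm_num), mk_mem_cent⟩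

/-- conjugation check -/
def ckJ (c p a b : ℕ) : Bool := eqc (Nat.xor c (apM p (cw a))) (Nat.xor (cw b) (apM (tp b) c)) &&
  Nat.beq (mul p (tp a)) (mul (tp b) p)

theorem conj_dH {g : Co0} {c p a b : ℕ} (h : MR g c p) (ha : a < 512) (hb : b < 512) (k : ckJ c p a b = true) :
    (g : Spor.Co1) * i0 (dH a) * (g : Spor.Co1)⁻¹ = i0 (dH b) :=
  mul_inv_eq_iff_eq_mul.2 ((h.mul (mr_dH ha)).mk_eq ((mr_dH hb).mul h) k)

theorem ckJ_of {g : Co0} {c p a b : ℕ} (h : MR g c p) (ha : a < 512) (hb : b < 512)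
    (k : (g : Spor.Co1) * i0 (dH a) * (g : Spor.Co1)⁻¹ = i0 (dH b)) : ckJ c p a b = true :=
  (h.mul (mr_dH ha)).of_mk_eq ((mr_dH hb).mul h) (mul_inv_eq_iff_eq_mul.1 k)

theorem mem_E1_of_cent {x : Spor.Co1} (hz : x ∈ 𝐂[i0 zs]) (h : ∀ i < 4, x ∈ 𝐂[i0 (dH (Nat.pow 2 i))]) : x ∈ E1 := by
  obtain ⟨g, rfl⟩ := QuotientGroup.mk_surjective x
  have k : allLt (fun i => isOct (cw (Nat.pow 2 i)) && Nat.beq (tp (Nat.pow 2 i)) oneC) 4 = true := by decide +kernel
  simp only [allLt_iff, Bool.and_eq_true, beq_iff] at k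
  have h1 : ∀ i < 4, fs (cw (Nat.pow 2 i)) ∈ CW ∧ g ∈ 𝐂[sgC (fs (cw (Nat.pow 2 i)))] := fun i hi => by
    have h2 := mem_octads.1 (fs_mem_octads (k i hi).1)
    have h3 : Nat.pow 2 i < 512 := Nat.pow_lt_pow_right (n := 9) (by norm_num) (by omega)
    refine ⟨h2.1, cent_lift h2.1 (by rw [h2.2]; norm_num) ?_⟩
    rw [(mr_sg (mr_dH h3).1).eq ((k i hi).2 ▸ mr_dH h3)]
    exact h i hi
  have h2 : ∀ p ∈ fs (Nat.xor O0 16777215), ((g • E8 p : LL) : ZV) = e8 p ∨ ((g • E8 p : LL) : ZV) = -e8 p := by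
    intro p hp
    refine eq_e8_of_supp (norm_smul_E8 g p) fun q hq => ?_
    have k2 : allLt (fun p => tb O0 p || allLt (fun q => Nat.beq p q || tb O0 q ||
      anyLt (fun i => xor (tb (cw (Nat.pow 2 i)) p) (tb (cw (Nat.pow 2 i)) q)) 4) 24) 24 = true := by decide +kernel
    rw [fs_compl, Finset.mem_sdiff, mem_fs, ← tb_eq] at hp
    simp only [allLt_iff, Bool.or_eq_true, beq_iff, anyLt_iff] at k2
    rcases ((k2 _ (ix_lt p)).resolve_left hp.2) _ (ix_lt q) with (e | e) | ⟨i, hi, e⟩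
    · exact absurd (ix_inj e).symm hq
    · exact eig_apply O0_CW O0_CW (mem_cent1_iff.1 (cent_eps.1 hz)).symm _ _ fun h3 =>
        hp.2 (tb_eq _ _ ▸ mem_fs.1 (h3.2 (mem_fs.2 (tb_eq _ _ ▸ e))))
    · refine eig_apply (h1 i hi).1 (h1 i hi).1 (mem_cent1_iff.1 (h1 i hi).2).symm _ _ fun h3 => ?_
      rw [mem_fs, mem_fs, ← tb_eq, ← tb_eq, Bool.eq_iff_iff.symm] at h3
      rw [h3, Bool.xor_self] at e
      exact absurd e (by decide)
  obtain ⟨c, hc, σ, rfl⟩ := mem_N0_of_e8 (h2 (pt 4) ((pt_mem_fs (by norm_num)).2 (by decide +kernel)))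
  have h3 := fixRound_sound σ.2 (F := Nat.xor O0 16777215) (F' := 16777215) (l := [0x10, 0x40, 0x80, 0x100, 0x200, 0x400, 0x800, 0x1000, 0x2000, 0x8000, 0x10000, 0x40000, 0x80000, 0x100000, 0x200000, 0x400000, 0x49f002, 0xd4b004, 0x6e3008, 0x9b3010, 0x5c6011]) (by decide +kernel)
    fun p hp => by
      have h4 : (if σ.1 p ∈ c then -1 else 1 : ℤ) ≠ 0 := by split_ifs <;> norm_num
      rcases h2 p hp with e | e <;> rw [mono_E8 hc] at e
      · exact (smul_e8_inj (ε' := 1) h4 (by rw [e, one_smul])).1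
      · exact (smul_e8_inj (ε' := -1) h4 (by rw [e, neg_one_smul])).1
  rw [show σ = 1 from Subtype.ext (Equiv.ext fun p => h3 p (mem_fs_full p)), map_one, mul_one]
  exact mem_E1.2 ⟨c, hc, rfl⟩

theorem exists_mr_E1 {x : Spor.Co1} (h : x ∈ E1) : ∃ i < 4096, ∃ g : Co0, MR g (enc i) oneC ∧ x = g := by
  obtain ⟨c, hc, rfl⟩ := mem_E1.1 h
  obtain ⟨i, hi, rfl⟩ := exists_enc hc
  exact ⟨i, hi, _, mr_sg (isCode_enc hi), rfl⟩

theorem MR.mem_E1 {g : Co0} {c : ℕ} (h : MR g c oneC) : (g : Spor.Co1) ∈ E1 :=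
  Co.mem_E1.2 ⟨_, fs_mem_CW h.1, by rw [h.eq (mr_sg h.1)]⟩

theorem cent_i0 {x : Spor.Co1} (h : x ∈ 𝐂(i0.range)) : x = 1 ∨ x = i0 zs := by
  have h1 : ∀ y, x ∈ 𝐂[i0 y] := fun y => mem_cent1_iff.2 (mem_cent_iff'.1 h _ ⟨y, rfl⟩)
  obtain ⟨i, hi, g, hg, rfl⟩ := exists_mr_E1 (mem_E1_of_cent (h1 _) fun i _ => h1 _)
  have k : allLt (fun i => force (enc i) fun c => eqc c 0 || eqc c O0 || !(ckJ c oneC 16 16 && ckJ c oneC 32 32 &&
    ckJ c oneC 64 64 && ckJ c oneC 128 128)) 4096 = true := by decide +kernel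
  have h2 := fun a ha => ckJ_of hg ha ha (conj_eq_iff_mem_cent1.2 (h1 (dH a)))
  have := allLt_iff.1 k i hi
  rw [force_eq, h2 16 (by norm_num), h2 32 (by norm_num), h2 64 (by norm_num), h2 128 (by norm_num)] at this
  simp only [Bool.and_self, Bool.not_true, Bool.or_false, Bool.or_eq_true] at this
  rcases this with e | e
  · exact Or.inl (hg.mk_eq mr_one (by rw [e]; decide +kernel))
  · exact Or.inr (i0_zs ▸ hg.mk_eq mr_eps (by rw [e]; decide +kernel))

end CA.Co
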