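import Cfsg.Agent.Lib.Co.CT1

/-!
The centraliser of an octad involution of `Co₁`: the first Conway group is of Conway type.
-/

set_option autoImplicit false

namespace CA.Co
open Cfsg CA.Gol CA CA.Ex2 CA.Core CA.Orth Subgroup QuadraticMap
open scoped Matrix Pointwise

/-- basis of the lattice on the octad -/
def UW : ℕ := 0x80808080808080808084808080808080808080807c8484807c80808080808080808080808080808080808080808484848480808080808080808080808080808080808480848084808280808080808680807e80808080808080807e80827e7e7e80808080808080808084808080808080808080808480847c7c80808080807c80808480808080808080808080848080808480808080808080807c8080808080808080848080808480808080808080808080808080808080808080808080808088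
/-- preimages of the basis -/
def WW : ℕ := 0x807e8280828080808082808080808080808080827e8282807e8280808080808280808280808080808080807e80828282828080828080808282808280808080808080828082808280817f7f7f817f837f817f81818181818181817f7f817f7f7f808080807e8280808082808280808080808280808280827e7e80808080807e80828282828080808080828080828080808280808082808080807e8280808080808082827e80808280808080808080808080808080808080808080808480808084
/-- dual vectors -/
def DW : ℕ := 0x808080807e8280808082808280808080808280808280827e7e80808080807e80828282828080808080828080828080808280808082808080807e8280808080808082827e80808280808080808080808080808080808080808080808480808084807e8280828080808082808080808080808080827e8282807e8280808080808280808280808080808080807e80828282828080828080808282808280808080808080828082808280817f7f7f817f837f817f81818181818181817f7f817f7f7f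

theorem UW_ok : allLt (fun i => isLP (fld 192 UW i)) 8 = true := by decide +kernel
theorem DW_ok : allLt (fun i => isLP (fld 192 DW i)) 8 = true := by decide +kernel
theorem coe_UW (i : Fin 8) : (tv 8 UW i : ZV) = vec (fld 192 UW i) := coe_lv (allLt_iff.1 UW_ok i i.2)

/-- the map `1 - ε` -/
noncomputable def dE : LL →+ LL := AddMonoidHom.id LL - coHom eps

theorem dE_apply (w : LL) : dE w = w - eps • w := rfl

theorem coe_dE (w : LL) (p : GolayPt) : (dE w : ZV) p = if tb O0 (ix p) = true then 2 * w.1 p else 0 := by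
  rw [dE_apply, AddSubgroup.coe_sub, Pi.sub_apply, eps, sgC_smul O0_CW, sg, tb_eq]
  simp only [mem_fs]
  split_ifs <;> ring

theorem smul_dE {g : Co0} (hg : g ∈ 𝐂[eps]) {v : LL} (hv : v ∈ dE.range) : g • v ∈ dE.range := by
  obtain ⟨w, rfl⟩ := hv
  exact ⟨g • w, by rw [dE_apply, dE_apply, co_sub, ← mul_smul, ← mul_smul, mem_cent1_iff.1 hg]⟩

theorem UW_mem (i : Fin 8) : tv 8 UW i ∈ dE.range := by
  have k : allLt (fun i => force (fld 192 WW i) fun W => isLP W && allLt (fun j =>
    decide (vz (fld 192 UW i) j = if tb O0 j = true then 2 * vz W j else 0)) 24) 8 = true := by decide +kernel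
  have := allLt_iff.1 k i i.2
  rw [force_eq, Bool.and_eq_true, allLt_iff] at this
  exact ⟨lv (fld 192 WW i), Subtype.ext (funext fun p => by
    rw [coe_dE, coe_lv this.1, coe_UW]; exact (of_decide_eq_true (this.2 _ (ix_lt p))).symm)⟩

theorem comb_mem (a : Fin 8 → ℤ) : comb (tv 8 UW) a ∈ dE.range :=
  AddSubgroup.sum_mem _ fun i _ => AddSubgroup.zsmul_mem _ (UW_mem i) _

theorem dual_UW (i : Fin 8) : kap (tv 8 DW) (tv 8 UW i) = bits 8 (Nat.pow 2 i) :=
  ckK_spec DW_ok (allLt_iff.1 (by decide +kernel : allLt (fun i => ckK 8 DW (fld 192 UW i) (Nat.pow 2 i)) 8 = true) i i.2)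
    (coe_UW i)

theorem kap_comb_UW (a : Fin 8 → ℤ) : kap (tv 8 DW) (comb (tv 8 UW) a) = fun j => (a j : ZMod 2) := by
  funext j
  rw [comb, map_sum, Finset.sum_apply, Finset.sum_eq_single j]
  · rw [map_zsmul, dual_UW]; simp [bits, Nat.testBit_two_pow]
  · intro i _ h; rw [map_zsmul, dual_UW]; simp [bits, Nat.testBit_two_pow, Fin.val_ne_of_ne h]
  · simp

theorem span_UW (w : LL) : ∃ a, Cg (dE w) (comb (tv 8 UW) a) := by
  let S : AddSubgroup LL :=
    { carrier := {w | ∃ a, Cg (dE w) (comb (tv 8 UW) a)}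
      zero_mem' := ⟨0, by simpa [comb] using Cg.refl 0⟩
      add_mem' := by
        rintro a b ⟨x, hx⟩ ⟨y, hy⟩
        exact ⟨x + y, by simpa [comb, add_smul, Finset.sum_add_distrib] using hx.add hy⟩
      neg_mem' := by
        rintro a ⟨x, hx⟩
        exact ⟨-x, by simpa [comb] using hx.neg⟩ }
  have k : allLt (fun k => force (fld 192 genV k) fun g => force (fld 24 0xbd00002600008e0000a90000000000a900008e0000ed00002600008a00006a00004700004b000000000001000001000001000001000001000000000001000001000000000001000001000001000001000001000001000001000001000000000001000000000000000000000000 k) fun m => cg0 fun j =>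
    Int.sub (if tb O0 j = true then 2 * vz g j else 0)
      (sumZ (fun i => Bool.rec 0 (vz (fld 192 UW i) j) (tb m i)) 8)) 37 = true := by decide +kernel
  generalize (0xbd00002600008e0000a90000000000a900008e0000ed00002600008a00006a00004700004b000000000001000001000001000001000001000000000001000001000000000001000001000001000001000001000001000001000001000000000001000000000000000000000000 : ℕ) = MT at k
  simp only [force_eq] at k
  obtain ⟨v, hv, e⟩ := leech_le_gen (H := S.map leechLattice.subtype) (fun j hj => by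
    refine ⟨⟨_, genV_mem hj⟩, ⟨_, cg_iff_sub.2 (?_ : Cg (_ - lft (tv 8 UW) (bits 8 (fld 24 MT j))) 0)⟩, rfl⟩
    convert cg0_spec (allLt_iff.1 k j hj) using 1
    funext q
    rw [Pi.sub_apply, coe_lft_bits UW_ok, coe_dE]; rfl) w.2
  obtain rfl : v = w := Subtype.ext e
  exact hv

/-- coordinates on the lattice on the octad modulo two -/
noncomputable def kW : LL →+ V8 := c8.toAddMonoidHom.comp (kap (tv 8 DW))
/-- a lift of a coordinate vector -/
noncomputable def lW (x : V8) : LL := lft (tv 8 UW) (c8.symm x)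

theorem kW_apply (v : LL) : kW v = c8 (kap (tv 8 DW) v) := rfl
theorem lW_mem (x : V8) : lW x ∈ dE.range := by rw [lW, lft]; exact comb_mem _
theorem kW_lW (x : V8) : kW (lW x) = x := by
  rw [kW_apply, lW, lft, kap_comb_UW, ← AddEquiv.eq_symm_apply]
  funext j; simp
theorem kW_cg {v w : LL} (h : Cg v w) : kW v = kW w := congrArg c8 (kap_cg _ h)

theorem cg_lW {v : LL} (hv : v ∈ dE.range) : Cg v (lW (kW v)) := by
  obtain ⟨w, rfl⟩ := hv
  obtain ⟨a, ha⟩ := span_UW w
  refine ha.trans (cg_comb _ fun i => ?_)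
  rw [kW_apply, AddEquiv.symm_apply_apply, kap_cg _ ha, kap_comb_UW]
  simp

theorem cg_of_kW {v w : LL} (hv : v ∈ dE.range) (hw : w ∈ dE.range) (h : kW v = kW w) : Cg v w :=
  (cg_lW hv).trans (h ▸ (cg_lW hw).symm)

theorem norm_cg {v w : LL} (hv : v ∈ dE.range) (hw : w ∈ dE.range) (h : Cg v w) :
    64 ∣ sqNorm (v : ZV) - sqNorm (w : ZV) := by
  obtain ⟨y, hy, e⟩ := h
  obtain ⟨a, rfl⟩ := hv
  obtain ⟨b, rfl⟩ := hw
  have e1 : dotInt (dE b : ZV) y = 2 * dotInt (b : ZV) y := by
    rw [dotInt, dotInt, Finset.mul_sum]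
    refine Finset.sum_congr rfl fun p _ => ?_
    have := congrFun e p
    rw [Pi.sub_apply, coe_dE, coe_dE, Pi.smul_apply, smul_eq_mul] at this
    rw [coe_dE]
    split_ifs at this ⊢
    · ring
    · rw [show y p = 0 by omega]; ring
  rw [sub_eq_iff_eq_add'.1 e, sqNorm_add, sqNorm_smul, dot_smul, e1]
  obtain ⟨k, hk⟩ := sixteen_dvd hy
  obtain ⟨l, hl⟩ := eight_dvd_dot b.2 hy
  exact ⟨k + l, by rw [hk, hl]; ring⟩

theorem Q_kW {v : LL} (hv : v ∈ dE.range) : Q8 (kW v) = (sqNorm (v : ZV) / 32 : ℤ) := by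
  obtain ⟨m, hm, e⟩ := d8_surj (kW v)
  have h1 := norm_cg hv (lW_mem _) (cg_lW hv)
  have k : allLt (fun m => pk (fun j => sumZ (fun i => Bool.rec 0 (vz (fld 192 UW i) j) (tb m i)) 8) fun W =>
    decide (dz W W % 64 = if qC m = true then 32 else 0)) 256 = true := by decide +kernel
  obtain ⟨W, h2, h3⟩ := pk_spec (allLt_iff.1 k m hm)
  rw [e, lW, d8, AddEquiv.symm_apply_apply, show (lft (tv 8 UW) (bits 8 m) : ZV) = vec W from
    funext fun p => by rw [coe_lft_bits UW_ok, h3], norm_vec] at h1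
  replace h2 := of_decide_eq_true h2
  rw [e, Q_d8, ← ZMod.intCast_mod]
  cases h4 : qC m <;> rw [h4] at h2
  · rw [show sqNorm (v : ZV) / 32 % ((2 : ℕ) : ℤ) = 0 by simp at h2; omega]; rfl
  · rw [show sqNorm (v : ZV) / 32 % ((2 : ℕ) : ℤ) = 1 by simp at h2; omega]; rfl

attribute [irreducible] UW WW DW dE kW lW

/-- the action on the coordinates -/
noncomputable def thL (g : ↥𝐂[eps]) : V8 →ₗ[ZMod 2] V8 :=
  AddMonoidHom.toZModLinearMap 2 (AddMonoidHom.mk' (fun x => kW (g.1 • lW x)) fun x y => by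
    rw [← map_add, ← co_add]
    exact kW_cg (Cg.co (cg_of_kW (lW_mem _) (add_mem (lW_mem x) (lW_mem y)) (by simp [kW_lW])) _))

theorem thL_kW (g : ↥𝐂[eps]) {v : LL} (hv : v ∈ dE.range) : thL g (kW v) = kW (g.1 • v) :=
  kW_cg ((cg_lW hv).symm.co _)

theorem thL_mul (g h : ↥𝐂[eps]) (x : V8) : thL g (thL h x) = thL (g * h) x := by
  rw [← kW_lW x, thL_kW h (lW_mem x), thL_kW g (smul_dE h.2 (lW_mem x)), thL_kW _ (lW_mem x), ← mul_smul]; rfl

theorem thL_one (x : V8) : thL 1 x = x := by
  rw [← kW_lW x, thL_kW _ (lW_mem x)]; exact congrArg kW (one_smul _ _)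

attribute [irreducible] thL

/-- the orthogonal representation of the centraliser -/
noncomputable def Th : ↥𝐂[eps] →* O Q8 := MonoidHom.mk' (fun g => O.mk' (thL g) (thL g⁻¹)
  (fun x => by rw [thL_mul, mul_inv_cancel, thL_one]) (fun x => by rw [thL_mul, inv_mul_cancel, thL_one])
  fun x => by rw [← kW_lW x, thL_kW _ (lW_mem x), Q_kW (smul_dE g.2 (lW_mem x)), Q_kW (lW_mem x), co_norm])
  fun g h => O.ext fun x => by rw [O.mul_apply, O.mk'_apply, O.mk'_apply, O.mk'_apply, thL_mul]

theorem Th_kW (g : ↥𝐂[eps]) {v : LL} (hv : v ∈ dE.range) : (Th g).1 (kW v) = kW (g.1 • v) := thL_kW g hv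

attribute [irreducible] Th

theorem kW_UW {i : ℕ} (hi : i < 8) : kW (tv 8 UW ⟨i, hi⟩) = d8 (Nat.pow 2 i) := by
  rw [kW_apply, dual_UW, d8]

theorem Th_d8 {g : ↥𝐂[eps]} {F : ℕ → ℕ → ℤ} (hg : Rep g F) {i t : ℕ} (hi : i < 8)
    (h : pk (F (fld 192 UW i)) (fun W => ckK 8 DW W t) = true) : (Th g).1 (d8 (Nat.pow 2 i)) = d8 t := by
  obtain ⟨W, h1, h2⟩ := pk_spec h
  rw [← kW_UW hi, Th_kW g (UW_mem _), kW_apply, ckK_spec DW_ok h1 ((hg _ _ (coe_UW _)).trans h2.symm), d8]

theorem sgC_comm {c d : Finset GolayPt} (hc : c ∈ CW) (hd : d ∈ CW) : sgC c * sgC d = sgC d * sgC c := by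
  rw [sgC_mul hc hd, sgC_mul hd hc, symmDiff_comm]

theorem sgC_mem_cent {c : Finset GolayPt} (hc : c ∈ CW) : sgC c ∈ 𝐂[eps] := mem_cent1_iff.2 (sgC_comm hc O0_CW)

theorem gW_ok : ckM 0x8280808080808280807e80808080808080807a8082827e8280827e827e82807e82808282827e827e827e80828080808080827e82828280827e80827e828282827e7e807e80808080807e7e82828280827e8082827e7e7e8282828082808080808082827e7e8280828280827e827e7e828282807e80808080807e8282827e807e8280828282827e82827e807e808080807e80808080807e80808280808080808080807e807e7e8286807e82828282808282807e82827e827e7e82807e80808080807e827e7e828082828082827e8282827e7e8082808080808680808080807e80808280808080808080807e807e7e827e807e7e7e7e8280827e807e8282827e7e827e807e80808080807e827e8282807e7e80827e7e7e827e827e807e808080808082827e827e80827e807e82827e8282827e808280808080807e7e7e827e80828280827e8282827e828280828080808080827e7e8282807e82807e827e8282828282807e80808080807e7e7e7e7e807e7e808282827e82827e82807e8080808080827e7e827e8082828082827e7e7e7e7e7e807e80808080807e7e7e8282807e82807e7e827e7e827e7e8082808080807e80808080807e80808280808080808080807e807e86827e807e7e827e7e808282807e7e7e7e8282827e807e808080808280808080808280807e80808080808080808280828286827e80808080807e80807a80808080808080807e807e7e827e7e80808080807e80808280808080808080807e80867e827e7e80808080808680808280808080808080807e807e7e827e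 0x8280808080807e80808680808080808080807e80827e7e7e8082827e827e807e7e807e7e827e827e827e807e80808080807e7e7e8282808282807e82827e7e7e7e7e807e80808080808282827e8280827e807e7e7e7e7e7e7e7e808280808080807e82827e8280827e807e828282827e8282807e8080808080828282827e8082828082827e7e827e7e82807e808080808280808080807e80807e80808080808080807e80827e7e86807e8282827e80828280827e82827e7e827e80828080808080827e7e8282808282807e7e7e82827e82828082808080807e808080808082808082808080808080808082807e7a8282808282828282807e82807e827e827e82827e807e8080808080827e827e8280828280827e827e8282827e807e808080808082827e828280827e80827e82827e827e82807e80808080807e827e7e82807e8280827e7e82827e7e7e807e808080808082827e7e7e808282807e82828282827e7e808280808080807e82828282807e82807e7e827e82827e8280828080808080827e828282807e7e8082828282827e7e7e808280808080807e7e82827e80827e807e7e7e8282827e7e807e808080807a80808080807e80807e80808080808080807e80827e7e7e80827e827e7e807e82807e7e82827e7e7e82807e808080808280808080807e80807e80808080808080807e80827e867e8280808080807e80807e80808080808080808680827e7e7e7e80808080808280808280808080808080808280868282828280808080808680807e80808080808080807e80827e7e7e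 = true := by decide +kernel

theorem E_le_range : E Q8 ≤ Th.range := by
  have h1 : ∀ w, polar Q8 (eV PUnit.{1} 0) w = 0 → eich Q8 (eV PUnit.{1} 0) w ∈ Th.range := fun w hw => by
    obtain ⟨m, hm, rfl⟩ := d8_surj w
    have k : allLt (fun m => bC 1 m || force (fld 24 0xc1ffadc1ffadcbdff0cbdff0430fe5430fe5492fb8492fb8cdafe6cdafe6c78fbbc78fbb4f5fae4f5fae457ff3457ff3000000000000000000000000000000000000000000000000000000000000000000000000000000000000000000000000d21fa8d21fa8d83ff5d83ff550efe050efe05acfbd5acfbdde4fe3de4fe3d46fbed46fbe5cbfab5cbfab569ff6569ff600000000000000000000000000000000000000000000000000000000000000000000000000000000000000000000000000dfba00dfba0affe70affe7822ff2822ff2880faf880faf0c8ff10c8ff106afac06afac8e7fb98e7fb9845fe4845fe4000000000000000000000000000000000000000000000000000000000000000000000000000000000000000000000000133fbf133fbf191fe2191fe291cff791cff79befaa9befaa1f6ff41f6ff4154fa9154fa99d9fbc9d9fbc97bfe197bfe10000000000000000000000000000000000000000000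00000000000000000000000000000000000000000000000000000a9bfb3a9bfb3a39feea39fee2b4ffb2b4ffb216fa6216fa6a5eff8a5eff8afcfa5afcfa5271fb0271fb02d3fed2d3fed000000000000000000000000000000000000000000000000000000000000000000000000000000000000000000000000ba5fb6ba5fb6b07febb07feb38affe38affe328fa3328fa3b60ffdb60ffdbc2fa0bc2fa034ffb534ffb53edfe83edfe8000000000000000000000000000000000000000000000000000000000000000000000000000000000000000000000000689fa4689fa462bff962bff9ea6fecea6fece04fb1e04fb164cfef64cfef6eefb26eefb2e63fa7e63fa7ec1ffaec1ffa0000000000000000000000000000000000000000000000000000000000000000000000000000000000000000000000007b7fa17b7fa1715ffc715ffcf98fe9f98fe9f3afb4f3afb4772fea772fea7d0fb77d0fb7f5dfa2f5dfa2ffffffffffff m) fun c => isCode c &&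
      allLt (fun i => pk (repN c oneC (fld 192 UW i)) fun W => ckK 8 DW W (eC 1 m (Nat.pow 2 i))) 8) 256 = true := by
      decide +kernel
    rw [← d8_one, B_d8, bz_eq_zero] at hw
    have := allLt_iff.1 k m hm
    rw [hw, Bool.false_or, force_eq, Bool.and_eq_true, allLt_iff] at this
    refine ⟨⟨_, sgC_mem_cent (fs_mem_CW this.1)⟩, ext8 fun i hi => ?_⟩
    rw [Th_d8 ((mr_sg this.1).rep valid_oneC (by decide +kernel)) hi (this.2 i hi), ← d8_one, eich_d8 rfl hw]
  have hg : coM gW_ok ∈ 𝐂[eps] := mem_cent1_iff.2 (mul_eq_of_rep (rep_coM gW_ok) (mr_eps.rep valid_oneC (by decide +kernel))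
    (mr_eps.rep valid_oneC (by decide +kernel)) (rep_coM gW_ok) (by decide +kernel))
  have h2 : (Th ⟨_, hg⟩).1 (eV PUnit.{1} 0) = fV PUnit.{1} 0 := by
    rw [← d8_one, ← d8_sixteen]
    exact Th_d8 (i := 0) (rep_coM gW_ok) (by norm_num) (by decide +kernel)
  refine (hyp_Qm 0).E_le nd8.ns h1 (fun w hw => ?_) ⟨d8 34, by rw [← d8_one, B_d8]; rfl, by rw [← d8_sixteen, B_d8]; rfl,
    by rw [Q_d8]; decide⟩
  rw [← h2, ← O.apply_inv_apply (Th ⟨_, hg⟩) w, ← conj_eich]
  refine mul_mem (mul_mem ⟨_, rfl⟩ (h1 _ ?_)) (inv_mem ⟨_, rfl⟩)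
  rw [B_comm, O.map_B_inv, h2, B_comm, hw]

theorem E8_mem : E8 (pt 0) ∈ dE.range := by
  have : tv 8 UW 0 = E8 (pt 0) := Subtype.ext ((coe_UW 0).trans (by decide +kernel))
  exact this ▸ UW_mem 0

theorem MR.mem_cent {g : Co0} {c p : ℕ} (h : MR g c p) : g ∈ 𝐂[eps] ↔ apM p O0 = O0 := by
  obtain ⟨hc, σ, rfl, rfl⟩ := h
  rw [mul_mem_cancel_left (sgC_mem_cent (fs_mem_CW hc)), ← conj_eq_iff_mem_cent1, eps, pmC_conj_sgC σ O0_CW,
    ← smul_fs_eq_iff _ O0_lt O0_lt]
  exact ⟨sgC_inj (smul_mem_CW σ.2 O0_CW) O0_CW, fun h => by rw [h]⟩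

theorem card_N0_cent : Nat.card ↥(N0 ⊓ 𝐂[eps]) ≤ 4096 * 322560 := by
  have key : ∀ g : ↥(N0 ⊓ 𝐂[eps]), ∃ i : Fin 4096, ∃ τ : SO, MR g (enc i) (code τ) := by
    rintro ⟨g, h1, h2⟩
    obtain ⟨i, hi, σ, h⟩ := exists_mr h1
    exact ⟨⟨i, hi⟩, ⟨σ, σ.2, (smul_fs_eq_iff _ O0_lt O0_lt).2 (h.mem_cent.1 h2)⟩, h⟩
  choose i τ e using key
  have := Nat.card_le_card_of_injective (fun g => (i g, τ g)) fun a b k => Subtype.ext ((e a).eq (by
    rw [show i a = i b from congrArg (·.1) k, show τ a = τ b from congrArg (·.2) k]; exact e b))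
  rwa [Nat.card_prod, card_SO, Nat.card_fin] at this

theorem count_eps : Nat.card ↥𝐂[eps] ≤ 135 * (4096 * 322560) ∧
    (135 * (4096 * 322560) ≤ Nat.card ↥𝐂[eps] → N0.relIndex 𝐂[eps] = 135) := by
  obtain ⟨h1, h2⟩ := orbit_count (((MulAction.toPermHom (V8 ≃ₗ[ZMod 2] V8) V8).comp (O Q8).subtype).comp Th)
    (kW (E8 (pt 0))) (H := N0.subgroupOf 𝐂[eps]) (fun g => by
      show _ ↔ (Th g).1 _ = _
      rw [Th_kW g E8_mem, mem_subgroupOf, mem_N0_iff (pt 0) (pt 0)]
      exact ⟨fun h => kW_cg h, fun h => cg_of_kW (smul_dE g.2 E8_mem) E8_mem h⟩)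
    (Set.toFinite {v : V8 | Q8 v = 0 ∧ v ≠ 0}) (fun g => by
      show Q8 ((Th g).1 _) = 0 ∧ (Th g).1 _ ≠ 0
      rw [Th_kW g E8_mem, Q_kW (smul_dE g.2 E8_mem), norm_smul_E8]
      refine ⟨by decide, fun h => ?_⟩
      have := (cg_of_kW (smul_dE g.2 E8_mem) (zero_mem _) (h.trans (map_zero kW).symm)).norm_eq (zero_mem _)
        (norm_smul_E8 _ _).le (by simp [sqNorm])
      rw [norm_smul_E8] at this
      simp [sqNorm] at this) ncard_sing.le (b := 4096 * 322560) (by rw [card_subgroupOf]; exact card_N0_cent)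
  exact ⟨h1, fun h => (h2 h).1⟩

theorem Phi_mem (x : Hs) : Phi x ∈ 𝐂[eps] := cent_eps.1 (mem_cent1_iff.2 (by rw [← i0_apply, ← map_mul, ← map_mul, zs_comm]))

theorem Th_Phi (x : Hs) : Th ⟨Phi x, Phi_mem x⟩ = 1 := by
  refine hs_gen (K := (Th.comp (Phi.codRestrict _ Phi_mem)).ker) (fun i hi => ext8 fun j hj => ?_) x
  have k : allLt (fun i => force (tp (Nat.pow 2 i)) fun p => valid p && Nat.beq (mul p p) oneC && allLt (fun j =>
    pk (repN (cw (Nat.pow 2 i)) p (fld 192 UW j)) fun W => ckK 8 DW W (Nat.pow 2 j)) 8) 9 = true := by decide +kernel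
  simp only [allLt_iff, force_eq, Bool.and_eq_true, beq_iff] at k
  exact Th_d8 ((mr_dH (Nat.pow_lt_pow_right (n := 9) (by norm_num) hi)).rep (k i hi).1.1 (k i hi).1.2) hj ((k i hi).2 j hj)

/-- the projection of centralisers -/
noncomputable def mC : ↥𝐂[eps] →* ↥𝐂[i0 zs] :=
  ((QuotientGroup.mk' _).comp (𝐂[eps]).subtype).codRestrict _ fun g => cent_eps.2 g.2

theorem mC_surj : Function.Surjective mC := fun x => by
  obtain ⟨g, e⟩ := QuotientGroup.mk_surjective x.1
  exact ⟨⟨g, cent_eps.1 (e ▸ x.2)⟩, Subtype.ext e⟩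

theorem negC_mem : negC ∈ 𝐂[eps] := mem_cent1_iff.2 (negC_comm _).symm

theorem Th_neg : Th ⟨negC, negC_mem⟩ = 1 := O.ext fun x => by
  rw [← kW_lW x, Th_kW _ (lW_mem x), negC_smul, map_neg, v8_neg]; rfl

theorem mC_ker : mC.ker = zpowers ⟨negC, negC_mem⟩ := by
  ext g
  rw [MonoidHom.mem_ker, mem_zp2 (Subtype.ext negC_sq), ← Subtype.coe_inj, ← Subtype.coe_inj (a := g),
    ← Subtype.coe_inj (a := g)]
  exact mk_eq_one_iff

theorem card_comap_surj {G G' : Type*} [Group G] [Group G'] [Finite G] {f : G →* G'} (hf : Function.Surjective f)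
    (K : Subgroup G') : Nat.card (K.comap f) = Nat.card f.ker * Nat.card K := by
  haveI := Finite.of_surjective f hf
  have h1 := (K.comap f).card_mul_index
  have h2 := f.ker.card_mul_index
  rw [index_comap_of_surjective _ hf] at h1
  rw [index_ker, MonoidHom.range_eq_top.2 hf, card_top, ← K.card_mul_index, ← h1, ← mul_assoc] at h2
  exact (Nat.eq_of_mul_eq_mul_right (Nat.pos_of_ne_zero index_ne_zero_of_finite) h2).symm

theorem ct0_aux : CT i0 ∧ N1.relIndex 𝐂[i0 zs] = 135 := by
  let K := (i0.range.subgroupOf 𝐂[i0 zs]).comap mC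
  have hK : ∀ g ∈ K, Th g = 1 := by
    rintro g ⟨x, e⟩
    rcases mk_eq_iff.1 e with e | e
    · rw [show g = ⟨_, Phi_mem x⟩ from Subtype.ext e, Th_Phi]
    · rw [show g = ⟨_, negC_mem⟩ * ⟨_, Phi_mem x⟩ from Subtype.ext e, map_mul, Th_neg, Th_Phi, mul_one]
  have hz := ez_range i0_inj
  have c1 : Nat.card K = 1024 := by
    rw [card_comap_surj mC_surj, mC_ker, card_zp2 (orderOf_eq_prime (Subtype.ext ((sq negC).trans negC_sq))
      fun h => negC_ne_one (congrArg Subtype.val h)), card_subgroupOf_of_le hz.le_cent1,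
      ← Nat.card_congr (MonoidHom.ofInjective i0_inj).toEquiv, card_Hs]; rfl
  obtain ⟨c2, θ, h1, h2, -⟩ := exists_onto (S := ⊤) (K := K) (Th.comp (⊤ : Subgroup _).subtype) (T := E Q8)
    (fun g hg => ⟨mem_top g, hK g hg⟩) (fun x hx => by obtain ⟨g, e⟩ := E_le_range hx; exact ⟨⟨g, mem_top g⟩, e⟩)
    (by rw [c1, card_E8]; exact count_eps.1)
  have h3 : mC.ker ≤ θ.ker := fun g hg => (h2 g).2 (by
    rw [mem_comap, hg]; exact one_mem _)
  let θ' := mC.liftOfSurjective mC_surj ⟨θ, h3⟩
  have h4 : ∀ g, θ' (mC g) = θ g := fun g => mC.liftOfRightInverse_comp_apply _ _ _ g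
  have h5 : ∀ g, θ' g = 1 ↔ g.1 ∈ i0.range := fun g => by
    obtain ⟨g, rfl⟩ := mC_surj g
    rw [h4, h2]; rfl
  refine ⟨ct_of i0_inj ⟨hz, fun x hx => ?_, ?_⟩ θ' (fun x => ?_) h5 (MulEquiv.refl _) ⟨(mo 0 0xb5cee18a11450854816fa858d9c8ca : Co0), ?_⟩, ?_⟩
  · rcases cent_i0 hx with rfl | rfl
    · exact one_mem _
    · exact ⟨_, rfl⟩
  · refine (normal_subgroupOf_iff_le_normalizer hz.le_cent1).1 ?_
    rw [show i0.range.subgroupOf _ = θ'.ker from Subgroup.ext fun g => (h5 g).symm]
    infer_instance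
  · obtain ⟨g, rfl⟩ := h1 x
    exact ⟨_, h4 g⟩
  · rw [← dH_256, conj_dH (b := 1) (mr_mo (by decide +kernel) (by decide +kernel)) (by norm_num) (by norm_num)
      (by decide +kernel)]
    exact ⟨⟨_, rfl⟩, fun h => absurd (dH_inj (by norm_num) (by norm_num) (i0_inj h)) (by norm_num)⟩
  · rw [← count_eps.2 (by rw [c2, c1, card_E8]), relIndex, relIndex, ← index_comap_of_surjective _ mC_surj]
    congr 1
    ext g
    exact mk_mem_N1

theorem ct0 : CT i0 := ct0_aux.1

theorem i0_mem_N1 (x : Hs) : i0 x ∈ N1 := by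
  obtain ⟨m, hm, rfl⟩ := dH_surj x
  exact mk_mem_N1.2 (mr_dH hm).mem

theorem exists_sylow_N1 : ∃ P, SylowIn 2 P ⊤ ∧ P ≤ N1 ⊓ 𝐂[i0 zs] ∧ i0.range ≤ P := by
  obtain ⟨P, h1, h2⟩ := exists_sylowIn_ge' Nat.prime_two ct0.lq.ez.pg (M := N1 ⊓ 𝐂[i0 zs])
    (le_inf (by rintro _ ⟨x, rfl⟩; exact i0_mem_N1 x) ct0.lq.ez.le_cent1)
  exact ⟨P, (h1.of_not_dvd_relIndex inf_le_right Nat.prime_two (by rw [inf_relIndex_right, ct0_aux.2]; norm_num)).of_norm_le_top
    (ct0.lq.norm_le_of_ge (h1.isPGroup Nat.prime_two) h2), ((sylowIn_iff Nat.prime_two).1 h1).1, h2⟩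

theorem exists_conj_N1 (x : Spor.Co1) (hx : orderOf x = 2) : ∃ g, g * x * g⁻¹ ∈ N1 := by
  obtain ⟨P, h1, h2, -⟩ := exists_sylow_N1
  obtain ⟨g, -, hg⟩ := h1.exists_cj_le (Q := zpowers x) ((piGrp_singleton_iff Nat.prime_two).2
    (IsPGroup.of_card (n := 1) (card_zp2 hx))) le_top
  exact ⟨g, (h2 (hg (conj_mem_cj.2 (mem_zpowers x)))).1⟩

theorem card_cent_eps : Nat.card ↥𝐂[((sgC (fs O0) : Co0) : Spor.Co1)] = 512 * 174182400 := by
  have := ct0.card_cent
  rwa [i0_zs] at this

end CA.Co
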