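import Cfsg.Agent.Lib.Co.CTb
import Cfsg.Agent.Lib.XS.Gasch

/-!
Central extensions of `Ω₈⁺(2)` by a group of order two: splitting criterion by commuting root elements.
-/

set_option autoImplicit false

namespace CA.Co
open Cfsg CA.Gol CA CA.Ex2 CA.Orth Subgroup QuadraticMap
open scoped Matrix Pointwise commutatorElement

/-- basis vector -/
def bv (a : ℕ) : V8 := d8 (Nat.pow 2 (Nat.mod a 8))
/-- root element with code `a + 8 b` -/
noncomputable def xr (r : ℕ) : O Q8 := eich Q8 (bv r) (bv (Nat.div r 8))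
/-- admissible root code -/
def okR (r : ℕ) : Bool := !(Nat.beq (Nat.mod (Nat.div r 8) 8) (Nat.xor (Nat.mod r 8) 4))
/-- root element on codes -/
def rC (r v : ℕ) : ℕ := force (Nat.mod r 8) fun a => force (Nat.mod (Nat.div r 8) 8) fun b =>
  Nat.xor (Nat.xor v (sC (tb v (Nat.xor a 4)) (Nat.pow 2 b))) (sC (tb v (Nat.xor b 4)) (Nat.pow 2 a))

theorem bC_pow (v : ℕ) {a : ℕ} (ha : a < 8) : bC v (Nat.pow 2 a) = tb v (Nat.xor a 4) := by
  have k : ∀ a < 8, ∀ b0 b1 b2 b3 b4 b5 b6 b7 : Bool, xor (xor (xor (b4 && tb (Nat.pow 2 a) 0) (b5 && tb (Nat.pow 2 a) 1))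
      (xor (b6 && tb (Nat.pow 2 a) 2) (b7 && tb (Nat.pow 2 a) 3))) (xor (xor (tb (Nat.pow 2 a) 4 && b0)
      (tb (Nat.pow 2 a) 5 && b1)) (xor (tb (Nat.pow 2 a) 6 && b2) (tb (Nat.pow 2 a) 7 && b3))) =
      [b4, b5, b6, b7, b0, b1, b2, b3].getD a false := by decide +kernel
  rw [bC, bt, bt, k a ha]
  interval_cases a <;> rfl

theorem mod8_lt (a : ℕ) : Nat.mod a 8 < 8 := Nat.mod_lt _ (by norm_num)

theorem Q_bv (a : ℕ) : Q8 (bv a) = 0 := by
  rw [bv, Q_d8, (by decide +kernel : ∀ a < 8, qC (Nat.pow 2 a) = false) _ (mod8_lt a)]; rfl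

theorem B_bv {r : ℕ} (h : okR r = true) : polar Q8 (bv r) (bv (Nat.div r 8)) = 0 := by
  rw [bv, bv, B_d8, bz_eq_zero]
  exact (by decide +kernel : ∀ a < 8, ∀ b < 8, (!(Nat.beq b (Nat.xor a 4))) = true →
    bC (Nat.pow 2 a) (Nat.pow 2 b) = false) _ (mod8_lt _) _ (mod8_lt _) h

theorem r8_xr {r : ℕ} (h : okR r = true) : R8 (xr r) (rC r) := fun v => by
  have h1 := Q_bv r
  have h2 := Q_bv (Nat.div r 8)
  have h3 := B_bv h
  rw [bv, Q_d8, bz_eq_zero] at h1 h2
  rw [bv, bv, B_d8, bz_eq_zero] at h3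
  rw [xr, bv, bv, eich_d8 h1 h3, eC, h2, bC_pow v (mod8_lt _), bC_pow v (mod8_lt _), rC, force_eq, force_eq,
    Bool.false_and, Bool.xor_false]

theorem xr_mem (r : ℕ) : xr r ∈ E Q8 := eich_mem_E _ _

theorem xr_inv {r : ℕ} (h : okR r = true) : (xr r)⁻¹ = xr r := by
  rw [xr, ← eich_neg (Q_bv r) (B_bv h), v8_neg]

theorem eich_swap {u w : V8} (hu : Q8 u = 0) (hw : Q8 w = 0) : eich Q8 u w = eich Q8 w u := by
  by_cases h : polar Q8 u w = 0
  · refine O.ext fun x => ?_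
    rw [eich_apply hu h, eich_apply hw ((B_comm w u).trans h), hu, hw, zero_mul, zero_mul, zero_smul, zero_smul, v8_sub,
      v8_sub, v8_sub, v8_sub, add_right_comm x]
  · rw [eich, eich, dif_neg fun k => h k.2, dif_neg fun k => h ((B_comm u w).trans k.2)]

/-- a word in root elements -/
noncomputable def wO (l : List ℕ) : O Q8 := (l.map xr).prod
/-- a word on codes -/
def wC (l : List ℕ) (v : ℕ) : ℕ := List.rec v (fun r _ ih => force ih (rC r)) l

theorem wO_cons (r : ℕ) (l : List ℕ) : wO (r :: l) = xr r * wO l := by simp [wO]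
theorem wO_append (l l' : List ℕ) : wO (l ++ l') = wO l * wO l' := by simp [wO]
theorem wO_one (r : ℕ) : wO [r] = xr r := by simp [wO]
theorem wO_mem (l : List ℕ) : wO l ∈ E Q8 := list_prod_mem fun _ h => by
  obtain ⟨r, -, rfl⟩ := List.mem_map.1 h
  exact xr_mem r

theorem r8_wO {l : List ℕ} (h : allL l okR = true) : R8 (wO l) (wC l) := by
  rw [allL_iff] at h
  induction l with
  | nil => exact R8.one
  | cons r l ih => exact wO_cons r l ▸ (r8_xr (h r (by simp))).mul (ih fun a ha => h a (by simp [ha]))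

/-- equality check for words -/
def ckW (l l' : List ℕ) : Bool :=
  allL l okR && allL l' okR && allLt (fun i => Nat.beq (wC l (Nat.pow 2 i)) (wC l' (Nat.pow 2 i))) 8

theorem wO_eq {l l' : List ℕ} (h : ckW l l' = true) : wO l = wO l' := by
  rw [ckW, Bool.and_eq_true, Bool.and_eq_true] at h
  exact (r8_wO h.1.1).ext (r8_wO h.1.2) h.2

theorem wO_conj {l : List ℕ} {a b : ℕ} (h : ckW (l ++ [a]) (b :: l) = true) : wO l * xr a * (wO l)⁻¹ = xr b := by
  have := wO_eq h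
  rw [wO_append, wO_one, wO_cons] at this
  rw [this, mul_inv_cancel_right]

theorem wO_comm {a b c : ℕ} (h : ckW [a, b, a, b] [c] = true) : ⁅xr a, xr b⁆ = xr c := by
  have := wO_eq h
  simp only [ckW, Bool.and_eq_true, allL_iff] at h
  rw [commutatorElement_def, xr_inv (h.1.1 a (by simp)), xr_inv (h.1.1 b (by simp))]
  simpa [wO, mul_assoc] using this

/-- the Weyl generators on indices -/
def pW (k a : ℕ) : ℕ := fld 3 0x4ecdc8dec4c8f74650fa5681 (Nat.add (Nat.mul 8 k) (Nat.mod a 8))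
/-- the action on pairs of root codes -/
def aW (k m : ℕ) : ℕ := force (Nat.mod m 64) fun r => force (Nat.div m 64) fun s =>
  Bool.rec (Bool.rec (Nat.add r (Nat.mul 64 (Nat.add (Nat.mod (Nat.div s 8) 8) (Nat.mul 8 (Nat.mod s 8)))))
    (Nat.add (Nat.add (Nat.mod (Nat.div r 8) 8) (Nat.mul 8 (Nat.mod r 8))) (Nat.mul 64 s)) (Nat.beq k 4))
    (Nat.add (Nat.add (pW k r) (Nat.mul 8 (pW k (Nat.div r 8))))
      (Nat.mul 64 (Nat.add (pW k s) (Nat.mul 8 (pW k (Nat.div s 8)))))) (Nat.blt k 4)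
/-- a word acting on pairs -/
def rW (w m : ℕ) : ℕ := Nat.rec m (fun t ih => force ih (aW (fld 3 (Nat.div w 16) t))) (Nat.mod w 16)

theorem xr_add {a b : ℕ} (ha : a < 8) (hb : b < 8) : xr (Nat.add a (Nat.mul 8 b)) = eich Q8 (bv a) (bv b) := by
  rw [xr, bv, bv, bv, bv, show Nat.mod (Nat.add a (Nat.mul 8 b)) 8 = Nat.mod a 8 from Nat.add_mul_mod_self_left a 8 b,
    show Nat.div (Nat.add a (Nat.mul 8 b)) 8 = b by show (a + 8 * b) / 8 = b; omega]

theorem bv_mod (a : ℕ) : bv (Nat.mod a 8) = bv a := congrArg (fun t => d8 (Nat.pow 2 t)) (Nat.mod_mod a 8)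

theorem xr_swap (r : ℕ) : xr (Nat.add (Nat.mod (Nat.div r 8) 8) (Nat.mul 8 (Nat.mod r 8))) = xr r := by
  rw [xr_add (mod8_lt _) (mod8_lt _), bv_mod, bv_mod, eich_swap (Q_bv _) (Q_bv _), xr]

theorem exists_weyl {k : ℕ} (hk : k < 4) : ∃ n ∈ E Q8, ∀ r,
    n * xr r * n⁻¹ = xr (Nat.add (pW k r) (Nat.mul 8 (pW k (Nat.div r 8)))) := by
  have h : allLt (fun k => (fun l => allL l okR && allLt (fun a => Nat.beq (wC l (Nat.pow 2 a)) (Nat.pow 2 (pW k a))) 8)
    ([[40, 12, 40], [49, 21, 49], [58, 30, 58], [26, 62, 26]].getD k [])) 4 = true := by decide +kernel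
  have h1 := allLt_iff.1 h k hk
  simp only [Bool.and_eq_true, allLt_iff, beq_iff] at h1
  have h2 : ∀ a, (wO _).1 (bv a) = bv (pW k a) := fun a => by
    rw [bv, r8_wO h1.1, h1.2 _ (mod8_lt a), bv, show Nat.mod (pW k a) 8 = pW k a from Nat.mod_eq_of_lt (fld_lt 3 _ _),
      pW, pW, show Nat.mod (Nat.mod a 8) 8 = Nat.mod a 8 from Nat.mod_mod a 8]
  exact ⟨_, wO_mem _, fun r => by rw [xr, conj_eich, h2, h2]; exact (xr_add (fld_lt 3 _ _) (fld_lt 3 _ _)).symm⟩

theorem rW_sound {P : O Q8 → O Q8 → Prop} (hP : ∀ n ∈ E Q8, ∀ a b, P a b → P (n * a * n⁻¹) (n * b * n⁻¹)) (w : ℕ)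
    {m : ℕ} (h : P (xr (Nat.mod m 64)) (xr (Nat.div m 64))) :
    P (xr (Nat.mod (rW w m) 64)) (xr (Nat.div (rW w m) 64)) := by
  have k1 : ∀ {a b : ℕ}, a < 64 → P (xr a) (xr b) →
      P (xr (Nat.mod (Nat.add a (Nat.mul 64 b)) 64)) (xr (Nat.div (Nat.add a (Nat.mul 64 b)) 64)) := fun {a b} ha h => by
    rwa [show Nat.mod (Nat.add a (Nat.mul 64 b)) 64 = a by show (a + 64 * b) % 64 = a; omega,
      show Nat.div (Nat.add a (Nat.mul 64 b)) 64 = b by show (a + 64 * b) / 64 = b; omega]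
  have k2 : ∀ {a b : ℕ}, a < 8 → b < 8 → Nat.add a (Nat.mul 8 b) < 64 := fun {a b} _ _ => by
    show a + 8 * b < 64; omega
  rw [rW]
  induction Nat.mod w 16 with
  | zero => exact h
  | succ t ih =>
    dsimp only
    generalize Nat.rec (motive := fun _ => ℕ) m _ t = x at ih ⊢
    simp only [force_eq, aW]
    generalize fld 3 (Nat.div w 16) t = k
    cases h1 : Nat.blt k 4
    · cases Nat.beq k 4
      · exact k1 (Nat.mod_lt _ (by norm_num)) (by rw [xr_swap]; exact ih)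
      · exact k1 (k2 (mod8_lt _) (mod8_lt _)) (by rw [xr_swap]; exact ih)
    · obtain ⟨n, hn, e⟩ := exists_weyl (blt_iff.1 h1)
      exact k1 (k2 (fld_lt 3 _ _) (fld_lt 3 _ _)) (by rw [← e, ← e]; exact hP n hn _ _ ih)

theorem card_closure_le {G : Type*} [Group G] [Finite G] (Y : ℕ → G) (n : ℕ) (h1 : ∀ j < n, Y j * Y j = 1)
    (h2 : ∀ j < n, ∀ i < j, Y j * Y i * (Y j)⁻¹ ∈ closure (Y '' {i | i < j})) :
    Nat.card (closure (Y '' {i | i < n})) ≤ 2 ^ n := by
  induction n with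
  | zero => simp
  | succ n ih =>
    have e : Y '' {i | i < n + 1} = Y '' {i | i < n} ∪ {Y n} := by
      rw [← Set.image_singleton, ← Set.image_union]; congr 1; ext i; simp; omega
    have hn : zpowers (Y n) ≤ 𝐍(closure (Y '' {i | i < n})) := zpowers_le.2 (mem_normalizer_fintype fun x hx =>
      (show Subgroup.closure (Y '' {i | i < n}) ≤ (closure (Y '' {i | i < n})).comap (MulAut.conj (Y n)).toMonoidHom from (closure_le _).2 (by
        rintro _ ⟨i, hi, rfl⟩; exact h2 n (by omega) i hi)) hx)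
    rw [e, Subgroup.closure_union, ← zpowers_eq_closure, pow_succ]
    refine (Nat.le_of_dvd (Nat.mul_pos Nat.card_pos Nat.card_pos) (card_sup_dvd (Or.inl hn))).trans
      (Nat.mul_le_mul (ih (fun j hj => h1 j (by omega)) fun j hj => h2 j (by omega)) ?_)
    rw [Nat.card_zpowers]
    exact Nat.le_of_dvd two_pos (orderOf_dvd_of_pow_eq_one ((_root_.sq _).trans (h1 n (by omega))))

variable {L : Type*} [Group L]

/-- central extension of `Ω` by an involution -/
structure CE (π : L →* O Q8) (ζ : L) : Prop where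
  cen : ∀ g, g * ζ = ζ * g
  sq : ζ * ζ = 1
  ne : ζ ≠ 1
  ker : ∀ g, π g = 1 ↔ g = 1 ∨ g = ζ
  rg : π.range = E Q8

/-- all lifts commute -/
def Com (π : L →* O Q8) (a b : O Q8) : Prop := ∀ g h, π g = a → π h = b → g * h = h * g

namespace CE
variable {π : L →* O Q8} {ζ : L} (H : CE π ζ) {g h g' h' : L} {a b c : O Q8}
include H

theorem eq_or (e : π g = π h) : g = h ∨ g = h * ζ := by
  rcases (H.ker (h⁻¹ * g)).1 (by simp [e]) with e | e
  · exact Or.inl (inv_mul_eq_one.1 e).symm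
  · exact Or.inr (inv_mul_eq_iff_eq_mul.1 e)

theorem lift (ha : a ∈ E Q8) : ∃ g, π g = a := H.rg.ge ha

theorem comm_eq (e : π g = π g') (e' : π h = π h') : ⁅g, h⁆ = ⁅g', h'⁆ := by
  have k : ∀ x y : L, ⁅x * ζ, y⁆ = ⁅x, y⁆ := fun x y => by
    rw [commutatorElement_def, commutatorElement_def, mul_inv_rev, mul_assoc x, ← H.cen]; group
  have k' : ∀ x y : L, ⁅x, y * ζ⁆ = ⁅x, y⁆ := fun x y => by rw [← commutatorElement_inv, k, commutatorElement_inv]
  rcases H.eq_or e with rfl | rfl <;> rcases H.eq_or e' with rfl | rfl <;> simp only [k, k']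

theorem com_of (e : g * h = h * g) : Com π (π g) (π h) := fun _ _ e1 e2 =>
  commutatorElement_eq_one_iff_mul_comm.1 ((H.comm_eq e1 e2).trans (commutatorElement_eq_one_iff_mul_comm.2 e))

theorem com_conj (n : O Q8) (hn : n ∈ E Q8) (a b : O Q8) (k : Com π a b) : Com π (n * a * n⁻¹) (n * b * n⁻¹) := by
  intro g h e1 e2
  obtain ⟨w, rfl⟩ := H.lift hn
  have := k (w⁻¹ * g * w) (w⁻¹ * h * w) (by simp [e1, mul_assoc]) (by simp [e2, mul_assoc])
  calc g * h = w * (w⁻¹ * g * w * (w⁻¹ * h * w)) * w⁻¹ := by group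
    _ = h * g := by rw [this]; group

theorem conj_comm {k l : L} (e1 : π g * π k * (π g)⁻¹ = π g') (e2 : π g * π l * (π g)⁻¹ = π h') :
    g * ⁅k, l⁆ * g⁻¹ = ⁅g', h'⁆ := by
  rw [conjugate_commutatorElement]; exact H.comm_eq (by simpa using e1) (by simpa using e2)

theorem com_comm (hb : b ∈ E Q8) (hc : c ∈ E Q8) (e1 : a * b * a⁻¹ = b) (e2 : a * c * a⁻¹ = c) : Com π a ⁅b, c⁆ := by
  rintro g h rfl e
  obtain ⟨k, rfl⟩ := H.lift hb
  obtain ⟨l, rfl⟩ := H.lift hc
  exact H.com_of (mul_inv_eq_iff_eq_mul.1 (H.conj_comm e1 e2)) g h rfl (by rw [e, map_commutatorElement])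

theorem com_seed : Com π (xr 8) (xr 16) := by
  rw [← wO_comm (a := 24) (b := 58) (c := 16) (by decide +kernel)]
  exact H.com_comm (xr_mem _) (xr_mem _) (wO_one 8 ▸ wO_conj (by decide +kernel)) (wO_one 8 ▸ wO_conj (by decide +kernel))

theorem sq_seed (g : L) (e : π g = xr 8) : g * g = 1 := by
  refine ((H.ker _).1 (by rw [map_mul, e, ← eq_inv_iff_mul_eq_one, xr_inv rfl])).resolve_right fun h1 => H.ne ?_
  obtain ⟨n, hn⟩ := H.lift (wO_mem [49, 21, 49])
  obtain ⟨k, hk⟩ := H.lift (xr_mem 42)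
  have h2 : ∀ n, n * g * n⁻¹ * (n * g * n⁻¹) = ζ := fun n => by
    rw [show n * g * n⁻¹ * (n * g * n⁻¹) = n * (g * g) * n⁻¹ by group, h1, H.cen, mul_inv_cancel_right]
  have h3 : π (n * g * n⁻¹) = xr 16 := by rw [map_mul, map_mul, map_inv, hn, e]; exact wO_conj (by decide +kernel)
  have h4 := H.com_seed _ _ e h3
  have h5 : π (k * g * k⁻¹) = π (g * (n * g * n⁻¹)) := by
    have := wO_eq (l := [42, 8]) (l' := [8, 16, 42]) (by decide +kernel)
    rw [map_mul π g, h3, map_mul, map_mul, map_inv, hk, e, mul_inv_eq_iff_eq_mul]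
    simpa [wO, mul_assoc] using this
  have h6 := h2 k
  have h7 := h2 n
  generalize n * g * n⁻¹ = b at h4 h5 h7
  have h8 : g * b * (g * b) = 1 := by
    rw [show g * b * (g * b) = g * (b * g) * b by group, ← h4, show g * (g * b) * b = g * g * (b * b) by group, h1, h7, H.sq]
  rcases H.eq_or h5 with e1 | e1 <;> rw [e1] at h6
  · exact h6.symm.trans h8
  · rw [← h6, mul_assoc, ← mul_assoc ζ, ← H.cen, mul_assoc _ ζ, H.sq, mul_one, h8]

theorem sq_root {w r : ℕ} (k : Nat.beq (Nat.mod (rW w 520) 64) r = true) (g : L) (e : π g = xr r) : g * g = 1 := by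
  refine rW_sound (P := fun a _ => ∀ g, π g = a → g * g = 1) (fun n hn a _ h g e => ?_) w (m := 520) H.sq_seed g
    (beq_iff.1 k ▸ e)
  obtain ⟨w, rfl⟩ := H.lift hn
  calc g * g = w * (w⁻¹ * g * w * (w⁻¹ * g * w)) * w⁻¹ := by group
    _ = 1 := by rw [h (w⁻¹ * g * w) (by simp [e, mul_assoc])]; group

theorem com_rW {w m r s : ℕ} (k : (Nat.beq (Nat.mod (rW w m) 64) r && Nat.beq (Nat.div (rW w m) 64) s) = true)
    (h : Com π (xr (Nat.mod m 64)) (xr (Nat.div m 64))) : Com π (xr r) (xr s) := by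
  rw [Bool.and_eq_true, beq_iff, beq_iff] at k
  exact k.1 ▸ k.2 ▸ rW_sound H.com_conj w h

theorem comm_of_aba {y : L} (e : π g * π y * (π g)⁻¹ = π y) (k : g * h * g ∈ 𝐂[y]) : h ∈ 𝐂[y] := by
  rcases H.eq_or (g := g * y * g⁻¹) (h := y) (by simpa using e) with e | e
  · have := conj_eq_iff_mem_cent1.1 e
    simpa [mul_assoc] using mul_mem (mul_mem (inv_mem this) k) (inv_mem this)
  · have e1 : g⁻¹ * y * g = y * ζ := by
      calc g⁻¹ * y * g = g⁻¹ * (y * ζ) * (ζ * g) := by rw [mul_assoc _ _ (ζ * g), mul_assoc y, ← mul_assoc ζ, H.sq]; group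
        _ = y * ζ := by rw [← H.cen]; conv_lhs => rw [← e]
                        group
    refine conj_eq_iff_mem_cent1.1 ?_
    calc h * y * h⁻¹ = g⁻¹ * (g * h * g * (g⁻¹ * y * g) * (g * h * g)⁻¹) * g := by group
      _ = g⁻¹ * (g * h * g * y * (g * h * g)⁻¹) * g * ζ := by
        rw [e1, ← mul_assoc _ y, mul_assoc _ ζ, ← H.cen, ← mul_assoc, ← mul_assoc, mul_assoc _ ζ, ← H.cen]; group
      _ = y := by rw [conj_eq_iff_mem_cent1.2 k, e1, mul_assoc, H.sq, mul_one]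

/-- a lift of a root element -/
noncomputable def sL (r : ℕ) : L := (H.lift (xr_mem r)).choose
theorem pi_sL (r : ℕ) : π (H.sL r) = xr r := (H.lift (xr_mem r)).choose_spec
theorem pi_wL (l : List ℕ) : π (l.map H.sL).prod = wO l := by
  rw [map_list_prod, List.map_map, wO]; congr 2; exact funext H.pi_sL

theorem eps_iff (hv : Com π (xr 8) (xr 40)) : Com π (xr 8) (xr 26) ↔ Com π (xr 8) (xr 58) := by
  have hy : π ⁅H.sL 16, H.sL 49⁆ = xr 8 := by rw [map_commutatorElement, pi_sL, pi_sL]; exact wO_comm (by decide +kernel)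
  have h1 := H.conj_comm (g := ([40, 12, 40, 26, 62, 26, 58, 30, 58].map H.sL).prod) (k := H.sL 16) (l := H.sL 49)
    (g' := H.sL 49) (h' := H.sL 16) (by rw [pi_wL, pi_sL, pi_sL]; exact wO_conj (by decide +kernel))
    (by rw [pi_wL, pi_sL, pi_sL]; exact wO_conj (by decide +kernel))
  rw [← commutatorElement_inv (H.sL 16), inv_eq_of_mul_eq_one_right (H.sq_seed _ hy), conj_eq_iff_mem_cent1] at h1
  generalize ⁅H.sL 16, H.sL 49⁆ = y at hy h1
  have h2 : ∀ {r}, Com π (xr 8) (xr r) → H.sL r ∈ 𝐂[y] := fun h => mem_cent1_iff.2 (h _ _ hy (H.pi_sL _)).symm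
  have h3 : ∀ {r}, H.sL r ∈ 𝐂[y] → Com π (xr 8) (xr r) := fun h => hy ▸ H.pi_sL _ ▸ H.com_of (mem_cent1_iff.1 h).symm
  have h4 := h2 hv
  have h5 := h2 (H.com_rW (w := 5635) (m := 2568) (s := 12) (by decide +kernel) hv)
  simp only [List.map, List.prod_cons, List.prod_nil, mul_one, mul_mem_cancel_left h4, mul_mem_cancel_left h5] at h1
  refine ⟨fun h => ?_, fun h => ?_⟩
  · rw [mul_mem_cancel_left (h2 h), mul_mem_cancel_left (h2 (H.com_rW (w := 418) (m := 1672) (by decide +kernel) h)),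
      mul_mem_cancel_left (h2 h), ← mul_assoc] at h1
    exact H.com_rW (w := 418) (m := 1928) (by decide +kernel)
      (h3 (H.comm_of_aba (by rw [hy, pi_sL, ← wO_one 58]; exact wO_conj (by decide +kernel)) h1))
  · simp only [← mul_assoc] at h1
    rw [mul_mem_cancel_right (h2 h), mul_mem_cancel_right (h2 (H.com_rW (w := 418) (m := 3720) (by decide +kernel) h)),
      mul_mem_cancel_right (h2 h)] at h1
    exact H.com_rW (w := 418) (m := 3976) (by decide +kernel)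
      (h3 (H.comm_of_aba (by rw [hy, pi_sL, ← wO_one 26]; exact wO_conj (by decide +kernel)) h1))

end CE

/-- commuting pairs with certificates -/
def cmL : List (ℕ × ℕ) := [(528, 68), (529, 20556), (536, 1096), (537, 172112), (538, 41042), (552, 46161), (560, 13388), (561, 1417300),
    (568, 1608), (569, 176208), (570, 45139), (1041, 1442324), (1048, 5196), (1049, 8270), (1050, 1351764), (1064,
    46160), (1072, 13389), (1080, 5708), (1081, 12367), (1082, 1355860), (1112, 1098), (1113, 5200), (1114, 10526808),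
    (1137, 106577), (1144, 1611), (1145, 5712), (1146, 10530904), (1553, 74), (1561, 11600408), (1562, 92602908),
    (1576, 570452), (1584, 71248), (1585, 106579), (1592, 1609), (1616, 70), (1626, 738525728), (1649, 530004), (1657,
    12365), (1672, 2), (1722, 45137), (2120, 2057), (2192, 16909), (2201, 5203), (2233, 5714), (2257, 655), (2264,
    139793), (2568, 1), (2586, 41043), (2618, 45138), (2705, 131601), (2712, 5199), (2744, 5710), (2768, 651), (2777,
    1114645), (3088, 69), (3097, 8271), (3112, 4559960), (3121, 93127196), (3129, 12366), (3153, 73), (3160, 1099),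
    (3192, 1610), (3272, 135), (3376, 11641369), (3416, 71314), (3448, 45715), (3601, 75), (3608, 1097), (3624,
    365652), (3632, 103504), (3633, 106578), (3641, 11633176), (3642, 92635676), (3664, 71), (3673, 8269), (3697,
    791636), (3706, 738558496), (3720, 3), (3857, 5778), (3896, 1454613), (3920, 5774), (3961, 11633177), (3976, 1674)]

/-- commutator relations with certificates -/
def crL : List (ℕ × ℕ × ℕ × List ℕ) := [(5, 4, 0, [26, 62, 26, 58, 51, 58]), (6, 3, 0, [40, 33, 40, 58, 51, 58]), (7, 2, 0, [40, 33, 40, 26, 62, 26]), (8,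
    4, 1, [25, 61, 25, 57, 43, 57]), (8, 6, 2, [17, 53, 17, 49, 42, 49]), (8, 7, 3, [17, 53, 17, 49, 42, 49]), (9, 1,
    0, [40, 33, 40, 26, 62, 26, 58, 51, 58]), (9, 8, 5, [16, 52, 16]), (10, 3, 1, [48, 34, 48, 57, 43, 57]), (10, 5, 2,
    [56, 35, 56, 49, 42, 49]), (10, 7, 4, [56, 35, 56, 49, 42, 49]), (10, 9, 6, [48, 34, 48, 57, 43, 57]), (11, 2, 1,
    [48, 34, 48, 25, 61, 25]), (11, 5, 3, [24, 60, 24, 49, 42, 49]), (11, 6, 4, [24, 60, 24, 49, 42, 49]), (11, 9, 7,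
    [48, 34, 48, 25, 61, 25])]

/-- certified commuting pair -/
def cm (r s : ℕ) : Bool := anyL cmL fun e => Nat.beq (Nat.mod e.1 64) r && Nat.beq (Nat.div e.1 64) s

/-- positive roots -/
def pR (j : ℕ) : ℕ := fld 6 4310514801204904690696 j
/-- first summands -/
def pA (j : ℕ) : ℕ := fld 6 1199187019321678266896 j
/-- second summands -/
def pB (j : ℕ) : ℕ := fld 6 4468522763593258023601 j

/-- ordered products -/
def pw {G : Type*} [Group G] (Y : ℕ → G) (m n : ℕ) : G := Nat.rec 1 (fun j ih => Bool.rec ih (Y j * ih) (tb m j)) n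
/-- ordered products on codes -/
def pwC (m n v : ℕ) : ℕ := Nat.rec v (fun j ih => Bool.rec ih (force ih (rC (pR j))) (tb m j)) n

theorem r8_pw (m : ℕ) {n : ℕ} (hn : n ≤ 12) : R8 (pw (fun j => xr (pR j)) m n) (pwC m n) := by
  induction n with
  | zero => exact R8.one
  | succ n ih =>
    intro v
    have := ih (by omega)
    simp only [pw, pwC] at this ⊢
    cases tb m n
    · exact this v
    · exact (r8_xr ((by decide +kernel : ∀ j < 12, okR (pR j) = true) n hn)).mul this v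

theorem pw_inj {a b : ℕ} (ha : a < 4096) (hb : b < 4096)
    (h : pw (fun j => xr (pR j)) a 12 = pw (fun j => xr (pR j)) b 12) : a = b := by
  have k : allLt (fun m => force (pwC m 12 16) fun a => force (pwC m 12 32) fun b => force (pwC m 12 64) fun c =>
      Nat.blt a 256 && Nat.blt b 256 && Nat.blt c 256 && Nat.beq m (fld 12 0xf01f00f02f03f06f07f05f04e21e20e22e23e26e27e25e24f2ef2ff2df2cf29f28f2af2be0ee0fe0de0ce09e08e0ae0bf0af0bf09f08f0df0cf0ef0fe2ae2be29e28e2de2ce2ee2ff25f24f26f27f22f23f21f20e05e04e06e07e02e03e01e00f11f10f12f13f16f17f15f14e31e30e32e33e36e37e35e34f3ef3ff3df3cf39f38f3af3be1ee1fe1de1ce19e18e1ae1bf1af1bf19f18f1df1cf1ef1fe3ae3be39e38e3de3ce3ee3ff35f34f36f37f32f33f31f30e15e14e16e17e12e13e11e10f51f50f52f53f56f57f55f54e71e70e72e73e76e77e75e74f7ff7ef7cf7df78f79f7bf7ae5fe5ee5ce5de58e59e5be5af5bf5af58f59f5cf5df5ff5ee7be7ae78e79e7ce7de7fe7ef75f74f76f77f72f73f71f70e55e54e56e57e52e53e51e50f41f40f42f43f46f47f45f4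4e61e60e62e63e66e67e65e64f6ff6ef6cf6df68f69f6bf6ae4fe4ee4ce4de48e49e4be4af4bf4af48f49f4cf4df4ff4ee6be6ae68e69e6ce6de6fe6ef65f64f66f67f62f63f61f60e45e44e46e47e42e43e41e40df1df0df3df2df6df7df4df5cf1cf0cf3cf2cf6cf7cf4cf5ddfddedddddcdd8dd9ddaddbcdfcdecddcdccd8cd9cdacdbdfadfbdf8df9dfddfcdffdfecfacfbcf8cf9cfdcfccffcfedd4dd5dd6dd7dd3dd2dd1dd0cd4cd5cd6cd7cd3cd2cd1cd0de1de0de3de2de6de7de4de5ce1ce0ce3ce2ce6ce7ce4ce5dcfdcedcddccdc8dc9dcadcbccfcceccdccccc8cc9ccaccbdeadebde8de9deddecdefdeeceacebce8ce9cedceccefceedc4dc5dc6dc7dc3dc2dc1dc0cc4cc5cc6cc7cc3cc2cc1cc0da1da0da3da2da6da7da4da5ca1ca0ca3ca2ca6ca7ca4ca5d8ed8fd8cd8dd89d88d8bd8ac8ec8fc8cc8dc89c88c8bc8adabdaada9da8dacdaddaedafcabcaaca9ca8caccadcaecafd84d85d86d87d83d82d81d80c84c85c86c87c83c82c81c80db1db0db3db2db6db7db4db5cb1cb0cb3cb2cb6cb7cb4cb5d9ed9fd9cd9dd99d98d9bd9ac9ec9fc9cc9dc99c98c9bc9adbbdbadb9db8dbcdbddbedbfcbbcbacb9cb8cbccbdcbecbfd94d95d96d97d93d92d91d90c94c95c96c97c93c92c9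1c90f91f90f92f93f97f96f94f95eb1eb0eb2eb3eb7eb6eb4eb5fbffbefbcfbdfb9fb8fbafbbe9fe9ee9ce9de99e98e9ae9bf9af9bf99f98f9cf9df9ff9eebaebbeb9eb8ebcebdebfebefb4fb5fb7fb6fb2fb3fb1fb0e94e95e97e96e92e93e91e90f81f80f82f83f87f86f84f85ea1ea0ea2ea3ea7ea6ea4ea5faffaefacfadfa9fa8faafabe8fe8ee8ce8de89e88e8ae8bf8af8bf89f88f8cf8df8ff8eeaaeabea9ea8eaceadeafeaefa4fa5fa7fa6fa2fa3fa1fa0e84e85e87e86e82e83e81e80fc1fc0fc2fc3fc7fc6fc4fc5ee1ee0ee2ee3ee7ee6ee4ee5feefeffedfecfe8fe9febfeaeceecfecdeccec8ec9ecbecafcbfcafc8fc9fcdfccfcefcfeebeeaee8ee9eedeeceeeeeffe4fe5fe7fe6fe2fe3fe1fe0ec4ec5ec7ec6ec2ec3ec1ec0fd1fd0fd2fd3fd7fd6fd4fd5ef1ef0ef2ef3ef7ef6ef4ef5ffefffffdffcff8ff9ffbffaedeedfeddedced8ed9edbedafdbfdafd8fd9fddfdcfdefdfefbefaef8ef9efdefcefeeffff4ff5ff7ff6ff2ff3ff1ff0ed4ed5ed7ed6ed2ed3ed1ed0d61d60d63d62d67d66d65d64c61c60c63c62c67c66c65c64d4ed4fd4cd4dd48d49d4ad4bc4ec4fc4cc4dc48c49c4ac4bd6ad6bd68d69d6cd6dd6ed6fc6ac6bc68c69c6cc6dc6ec6fd45d44d47d46d43d4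2d41d40c45c44c47c46c43c42c41c40d71d70d73d72d77d76d75d74c71c70c73c72c77c76c75c74d5ed5fd5cd5dd58d59d5ad5bc5ec5fc5cc5dc58c59c5ac5bd7ad7bd78d79d7cd7dd7ed7fc7ac7bc78c79c7cc7dc7ec7fd55d54d57d56d53d52d51d50c55c54c57c56c53c52c51c50d31d30d33d32d37d36d35d34c31c30c33c32c37c36c35c34d1fd1ed1dd1cd19d18d1bd1ac1fc1ec1dc1cc19c18c1bc1ad3bd3ad39d38d3dd3cd3fd3ec3bc3ac39c38c3dc3cc3fc3ed15d14d17d16d13d12d11d10c15c14c17c16c13c12c11c10d21d20d23d22d27d26d25d24c21c20c23c22c27c26c25c24d0fd0ed0dd0cd09d08d0bd0ac0fc0ec0dc0cc09c08c0bc0ad2bd2ad29d28d2dd2cd2fd2ec2bc2ac29c28c2dc2cc2fc2ed05d04d07d06d03d02d01d00c05c04c07c06c03c02c01c00b45b44b46b47b42b43b41b40a65a64a66a67a62a63a61a60b6cb6db6fb6eb6bb6ab68b69a4ca4da4fa4ea4ba4aa48a49b4cb4db4fb4eb4bb4ab48b49a6ca6da6fa6ea6ba6aa68a69b65b64b66b67b62b63b61b60a45a44a46a47a42a43a41a40b55b54b56b57b52b53b51b50a75a74a76a77a72a73a71a70b7cb7db7fb7eb7bb7ab78b79a5ca5da5fa5ea5ba5aa58a59b5cb5db5fb5eb5bb5ab58b59a7ca7da7fa7ea7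ba7aa78a79b75b74b76b77b72b73b71b70a55a54a56a57a52a53a51a50b15b14b16b17b12b13b11b10a35a34a36a37a32a33a31a30b3db3cb3eb3fb3ab3bb39b38a1da1ca1ea1fa1aa1ba19a18b1db1cb1eb1fb1ab1bb19b18a3da3ca3ea3fa3aa3ba39a38b35b34b36b37b32b33b31b30a15a14a16a17a12a13a11a10b05b04b06b07b02b03b01b00a25a24a26a27a22a23a21a20b2db2cb2eb2fb2ab2bb29b28a0da0ca0ea0fa0aa0ba09a08b0db0cb0eb0fb0ab0bb09b08a2da2ca2ea2fa2aa2ba29a28b25b24b26b27b22b23b21b20a05a04a06a07a02a03a01a009e49e59e69e79e39e29e19e08e48e58e68e78e38e28e18e09cd9cc9cf9ce9ca9cb9c89c98cd8cc8cf8ce8ca8cb8c88c99ed9ec9ef9ee9ea9eb9e89e98ed8ec8ef8ee8ea8eb8e88e99c49c59c69c79c39c29c19c08c48c58c68c78c38c28c18c09f49f59f69f79f39f29f19f08f48f58f68f78f38f28f18f09dd9dc9df9de9da9db9d89d98dd8dc8df8de8da8db8d88d99fd9fc9ff9fe9fa9fb9f89f98fd8fc8ff8fe8fa8fb8f88f99d49d59d69d79d39d29d19d08d48d58d68d78d38d28d18d09b49b59b69b79b39b29b19b08b48b58b68b78b38b28b18b099c99d99e99f99b99a99999889c89d89e89f89b89a8998989bc9bd9be9b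f9bb9ba9b99b88bc8bd8be8bf8bb8ba8b98b89949959969979939929919908948958968978938928918909a49a59a69a79a39a29a19a08a48a58a68a78a38a28a18a098c98d98e98f98b98a98998888c88d88e88f88b88a8898889ac9ad9ae9af9ab9aa9a99a88ac8ad8ae8af8ab8aa8a98a8984985986987983982981980884885886887883882881880bc4bc5bc7bc6bc2bc3bc1bc0ae4ae5ae7ae6ae2ae3ae1ae0bedbecbeebefbebbeabe8be9acdaccaceacfacbacaac8ac9bcdbccbcebcfbcbbcabc8bc9aedaecaeeaefaebaeaae8ae9be4be5be7be6be2be3be1be0ac4ac5ac7ac6ac2ac3ac1ac0bd4bd5bd7bd6bd2bd3bd1bd0af4af5af7af6af2af3af1af0bfdbfcbfebffbfbbfabf8bf9addadcadeadfadbadaad8ad9bddbdcbdebdfbdbbdabd8bd9afdafcafeaffafbafaaf8af9bf4bf5bf7bf6bf2bf3bf1bf0ad4ad5ad7ad6ad2ad3ad1ad0b94b95b97b96b92b93b91b90ab4ab5ab7ab6ab2ab3ab1ab0bbcbbdbbfbbebbabbbbb9bb8a9ca9da9fa9ea9aa9ba99a98b9cb9db9fb9eb9ab9bb99b98abcabdabfabeabaabbab9ab8bb4bb5bb7bb6bb2bb3bb1bb0a94a95a97a96a92a93a91a90b84b85b87b86b82b83b81b80aa4aa5aa7aa6aa2aa3aa1aa0bacbadbafbaebaababba9ba8a8ca8da8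fa8ea8aa8ba89a88b8cb8db8fb8eb8ab8bb89b88aacaadaafaaeaaaaabaa9aa8ba4ba5ba7ba6ba2ba3ba1ba0a84a85a87a86a82a83a81a8096596496796696396296196086586486786686386286186094c94d94e94f94a94b94894984c84d84e84f84a84b84884996c96d96e96f96a96b96896986c86d86e86f86a86b86886994594494794694394294194084584484784684384284184097597497797697397297197087587487787687387287187095c95d95e95f95a95b95895985c85d85e85f85a85b85885997c97d97e97f97a97b97897987c87d87e87f87a87b87887995595495795695395295195085585485785685385285185093593493793693393293193083583483783683383283183091d91c91f91e91b91a91991881d81c81f81e81b81a81981893d93c93f93e93b93a93993883d83c83f83e83b83a83983891591491791691391291191081581481781681381281181092592492792692392292192082582482782682382282182090d90c90f90e90b90a90990880d80c80f80e80b80a80980892d92c92f92e92b92a92992882d82c82f82e82b82a82982890590490790690390290190080580480780680380280180078978878a78b78c78d78f78e6a96a86aa6ab6ac6ad6af6ae7ac7a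d7af7ae7a97a87aa7ab68c68d68f68e68968868a68b7827837817807877867847856a26a36a16a06a76a66a46a57a77a67a47a57a27a37a17a068768668468568268368168079979879a79b79c79d79f79e6b96b86ba6bb6bc6bd6bf6be7bc7bd7bf7be7b97b87ba7bb69c69d69f69e69969869a69b7927937917907977967947956b26b36b16b06b76b66b46b57b77b67b47b57b27b37b17b06976966946956926936916907c87c97cb7ca7cd7cc7ce7cf6e86e96eb6ea6ed6ec6ee6ef7ed7ec7ee7ef7e87e97eb7ea6cd6cc6ce6cf6c86c96cb6ca7c27c37c17c07c77c67c47c56e26e36e16e06e76e66e46e57e77e67e47e57e27e37e17e06c76c66c46c56c26c36c16c07d87d97db7da7dd7dc7de7df6f86f96fb6fa6fd6fc6fe6ff7fd7fc7fe7ff7f87f97fb7fa6dd6dc6de6df6d86d96db6da7d27d37d17d07d77d67d47d56f26f36f16f06f76f66f46f57f77f67f47f57f27f37f17f06d76d66d46d56d26d36d16d05e85e95ea5eb5ed5ec5ef5ee4e84e94ea4eb4ed4ec4ef4ee5cd5cc5cf5ce5c85c95ca5cb4cd4cc4cf4ce4c84c94ca4cb5e35e25e15e05e65e75e45e54e34e24e14e04e64e74e44e55c65c75c45c55c35c25c15c04c64c74c44c54c34c24c14c05f85f95fa5fb5fd5fc5ff5fe4f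84f94fa4fb4fd4fc4ff4fe5dd5dc5df5de5d85d95da5db4dd4dc4df4de4d84d94da4db5f35f25f15f05f65f75f45f54f34f24f14f04f64f74f44f55d65d75d45d55d35d25d15d04d64d74d44d54d34d24d14d05a95a85ab5aa5ac5ad5ae5af4a94a84ab4aa4ac4ad4ae4af58c58d58e58f58958858b58a48c48d48e48f48948848b48a5a35a25a15a05a65a75a45a54a34a24a14a04a64a74a44a55865875845855835825815804864874844854834824814805b95b85bb5ba5bc5bd5be5bf4b94b84bb4ba4bc4bd4be4bf59c59d59e59f59959859b59a49c49d49e49f49949849b49a5b35b25b15b05b65b75b45b54b34b24b14b04b64b74b44b559659759459559359259159049649749449549349249149071971871a71b71d71c71e71f63963863a63b63d63c63e63f73d73c73e73f73973873a73b61d61c61e61f61961861a61b71271371171071671771571463263363163063663763563473673773573473273373173061661761561461261361161070970870a70b70d70c70e70f62962862a62b62d62c62e62f72d72c72e72f72972872a72b60d60c60e60f60960860a60b70270370170070670770570462262362162062662762562472672772572472272372172060660760560460260360160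075875975b75a75c75d75f75e67867967b67a67c67d67f67e77c77d77f77e77877977b77a65c65d65f65e65865965b65a75275375175075675775575467267367167067667767567477677777577477277377177065665765565465265365165074874974b74a74c74d74f74e66866966b66a66c66d66f66e76c76d76f76e76876976b76a64c64d64f64e64864964b64a74274374174074674774574466266366166066666766566476676776576476276376176064664764564464264364164057857957a57b57c57d57e57f47847947a47b47c47d47e47f55c55d55e55f55855955a55b45c45d45e45f45845945a45b57357257157057757657557447347247147047747647547455755655555455355255155045745645545445345245145056856956a56b56c56d56e56f46846946a46b46c46d46e46f54c54d54e54f54854954a54b44c44d44e44f44844944a44b56356256156056756656556446346246146046746646546454754654554454354254154044744644544444344244144053953853b53a53d53c53f53e43943843b43a43d43c43f43e51d51c51f51e51951851b51a41d41c41f41e41941841b41a53353253153053753653553443343243143043743643543451751651551451351251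151041741641541441341241141052952852b52a52d52c52f52e42942842b42a42d42c42f42e50d50c50f50e50950850b50a40d40c40f40e40940840b40a5235225215205275265255244234224214204274264254245075065055045035025015004074064054044034024014003de3df3dd3dc3db3da3d83d92fe2ff2fd2fc2fb2fa2f82f93fe3ff3fd3fc3fb3fa3f83f92de2df2dd2dc2db2da2d82d93d73d63d43d53d23d33d13d02f72f62f42f52f22f32f12f03f73f63f43f53f23f33f13f02d72d62d42d52d22d32d12d03ce3cf3cd3cc3cb3ca3c83c92ee2ef2ed2ec2eb2ea2e82e93ee3ef3ed3ec3eb3ea3e83e92ce2cf2cd2cc2cb2ca2c82c93c73c63c43c53c23c33c13c02e72e62e42e52e22e32e12e03e73e63e43e53e23e33e13e02c72c62c42c52c22c32c12c039f39e39c39d39a39b3993982bf2be2bc2bd2ba2bb2b92b83bf3be3bc3bd3ba3bb3b93b829f29e29c29d29a29b2992983973963943953923933913902b72b62b42b52b22b32b12b03b73b63b43b53b23b33b13b029729629429529229329129038f38e38c38d38a38b3893882af2ae2ac2ad2aa2ab2a92a83af3ae3ac3ad3aa3ab3a93a828f28e28c28d28a28b2892883873863843853823833813802a72a62a42a52a22a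32a12a03a73a63a43a53a23a33a13a02872862842852822832812801ff1fe1fd1fc1fa1fb1f81f90ff0fe0fd0fc0fa0fb0f80f91df1de1dd1dc1da1db1d81d90df0de0dd0dc0da0db0d80d91f61f71f41f51f31f21f11f00f60f70f40f50f30f20f10f01d61d71d41d51d31d21d11d00d60d70d40d50d30d20d10d01ef1ee1ed1ec1ea1eb1e81e90ef0ee0ed0ec0ea0eb0e80e91cf1ce1cd1cc1ca1cb1c81c90cf0ce0cd0cc0ca0cb0c80c91e61e71e41e51e31e21e11e00e60e70e40e50e30e20e10e01c61c71c41c51c31c21c11c00c60c70c40c50c30c20c10c01be1bf1bc1bd1bb1ba1b91b80be0bf0bc0bd0bb0ba0b90b819e19f19c19d19b19a19919809e09f09c09d09b09a0990981b61b71b41b51b31b21b11b00b60b70b40b50b30b20b10b01961971941951931921911900960970940950930920910901ae1af1ac1ad1ab1aa1a91a80ae0af0ac0ad0ab0aa0a90a818e18f18c18d18b18a18918808e08f08c08d08b08a0890881a61a71a41a51a31a21a11a00a60a70a40a50a30a20a10a018618718418518318218118008608708408508308208108035f35e35c35d35b35a35835927f27e27c27d27b27a27827937f37e37c37d37b37a37837925f25e25c25d25b25a25825935635735535435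235335135027627727527427227327127037637737537437237337137025625725525425225325125034f34e34c34d34b34a34834926f26e26c26d26b26a26826936f36e36c36d36b36a36836924f24e24c24d24b24a24824934634734534434234334134026626726526426226326126036636736536436236336136024624724524424224324124031e31f31d31c31a31b31931823e23f23d23c23a23b23923833e33f33d33c33a33b33933821e21f21d21c21a21b21921831631731531431231331131023623723523423223323123033633733533433233333133021621721521421221321121030e30f30d30c30a30b30930822e22f22d22c22a22b22922832e32f32d32c32a32b32932820e20f20d20c20a20b20920830630730530430230330130022622722522422222322122032632732532432232332132020620720520420220320120017e17f17c17d17a17b17817907e07f07c07d07a07b07807915e15f15c15d15a15b15815905e05f05c05d05a05b05805917717617517417317217117007707607507407307207107015715615515415315215115005705605505405305205105016e16f16c16d16a16b16816906e06f06c06d06a06b06806914e14f14c14d14a14b14814904e04f04c04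d04a04b04804916716616516416316216116006706606506406306206106014714614514414314214114004704604504404304204104013f13e13d13c13b13a13913803f03e03d03c03b03a03903811f11e11d11c11b11a11911801f01e01d01c01b01a01901813713613513413313213113003703603503403303203103011711611511411311211111001701601501401301201101012f12e12d12c12b12a12912802f02e02d02c02b02a02902810f10e10d10c10b10a10910800f00e00d00c00b00a009008127126125124123122121120027026025024023022021020107106105104103102101100007006005004003002001000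
        (Nat.add (Nat.add (Nat.add (fld 3 (Nat.div a 2) 0) (Nat.mul 8 (Nat.div a 32)))
        (Nat.add (Nat.mul 64 (fld 2 b 1)) (Nat.mul 256 (Nat.div b 64))))
        (Nat.add (Nat.mul 1024 (fld 1 c 3)) (Nat.mul 2048 (Nat.div c 128)))))) 4096 = true := by decide +kernel
  simp only [allLt_iff, force_eq, Bool.and_eq_true, beq_iff, blt_iff] at k
  have h1 : ∀ v, d8 (pwC a 12 v) = d8 (pwC b 12 v) := fun v => by rw [← r8_pw a le_rfl, h, r8_pw b le_rfl]
  rw [(k a ha).2, d8_inj (k a ha).1.1.1 (k b hb).1.1.1 (h1 _), d8_inj (k a ha).1.1.2 (k b hb).1.1.2 (h1 _),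
    d8_inj (k a ha).1.2 (k b hb).1.2 (h1 _), ← (k b hb).2]

theorem CE.split [Finite L] {π : L →* O Q8} {ζ : L} (H : CE π ζ) (hv : Com π (xr 8) (xr 40))
    (hs : Com π (xr 8) (xr 26)) : ∃ K : Subgroup L, K ⊓ zpowers ζ = ⊥ ∧ K ⊔ zpowers ζ = ⊤ := by
  have h1 : ∀ r s, cm r s = true → Com π (xr r) (xr s) := fun r s h => by
    obtain ⟨e, he, h⟩ := anyL_iff.1 h
    have k : allL cmL (fun e => Nat.beq (rW (Nat.div e.2 4) ([1032, 2568, 1672, 3720].getD (Nat.mod e.2 4) 0)) e.1) =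
      true := by decide +kernel
    refine H.com_rW (w := Nat.div e.2 4) (by rwa [beq_iff.1 (allL_iff.1 k e he)]) ?_
    have : Nat.mod e.2 4 < 4 := Nat.mod_lt _ (by norm_num)
    generalize Nat.mod e.2 4 = t at this
    interval_cases t
    exacts [H.com_seed, hv, hs, (H.eps_iff hv).1 hs]
  let Y : ℕ → L := fun j => ⁅H.sL (pA j), H.sL (pB j)⁆
  have k : allLt (fun j => ckW [pA j, pB j, pA j, pB j] [pR j] && Nat.beq (Nat.mod (rW ([0, 17, 274, 402, 18, 3347, 2067, 3091, 11540, 26644, 10260, 11284].getD j 0) 520) 64) (pR j) &&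
    allLt (fun i => cm (pR j) (pR i) || anyL crL fun c => Nat.beq c.1 j && Nat.beq c.2.1 i && Nat.blt c.2.2.1 j &&
      allL c.2.2.2 (cm (pR c.2.2.1)) && ckW (c.2.2.2 ++ [pA c.2.2.1]) (pR j :: c.2.2.2) &&
      ckW (c.2.2.2 ++ [pB c.2.2.1]) (pR i :: c.2.2.2)) j) 12 = true := by decide +kernel
  simp only [allLt_iff, Bool.and_eq_true, Bool.or_eq_true, anyL_iff, blt_iff, allL_iff] at k
  have h2 : ∀ j < 12, π (Y j) = xr (pR j) := fun j hj => by
    rw [map_commutatorElement, H.pi_sL, H.pi_sL, wO_comm (k j hj).1.1]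
  have h3 := card_closure_le Y 12 (fun j hj => H.sq_root (k j hj).1.2 _ (h2 j hj)) fun j hj i hi => by
    have hi' : Y i ∈ closure (Y '' {i | i < j}) := subset_closure ⟨i, hi, rfl⟩
    rcases (k j hj).2 i hi with h | ⟨⟨_, _, t, l⟩, -, ⟨⟨⟨-, ht⟩, h4⟩, h5⟩, h6⟩
    · rwa [h1 _ _ h _ _ (h2 j hj) (h2 i (by omega)), mul_inv_cancel_right]
    · have h7 := H.conj_comm (g := (l.map H.sL).prod) (k := H.sL (pA t)) (l := H.sL (pB t)) (g' := Y j) (h' := Y i)
        (by rw [H.pi_wL, H.pi_sL, h2 j hj, wO_conj h5]) (by rw [H.pi_wL, H.pi_sL, h2 i (by omega), wO_conj h6])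
      rw [conj_eq_iff_mem_cent1.2 (list_prod_mem fun x hx => by
        obtain ⟨r, hr, rfl⟩ := List.mem_map.1 hx
        exact mem_cent1_iff.2 (h1 _ _ (h4 r hr) _ _ (h2 t (lt_trans ht hj)) (H.pi_sL r)).symm)] at h7
      rw [show Y j * Y i * (Y j)⁻¹ = ⁅Y j, Y i⁆ * Y i by rw [commutatorElement_def]; group, ← h7]
      exact mul_mem (subset_closure ⟨t, ht, rfl⟩) hi'
  generalize hK : closure (Y '' {i | i < 12}) = K at h3
  have h4 : ∀ m n, n ≤ 12 → pw (fun j => xr (pR j)) m n ∈ K.map π := fun m n hn => by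
    induction n with
    | zero => exact one_mem _
    | succ n ih =>
      have := ih (by omega)
      simp only [pw] at this ⊢
      cases tb m n
      · exact this
      · exact mul_mem ⟨_, hK ▸ subset_closure ⟨n, hn, rfl⟩, h2 n hn⟩ this
  have h5 : 2 ^ 12 ≤ Nat.card (K.map π) := by
    simpa using Nat.card_le_card_of_injective (fun m : Fin 4096 => (⟨_, h4 m 12 le_rfl⟩ : K.map π))
      fun a b e => Fin.ext (pw_inj a.2 b.2 (congrArg Subtype.val e))
  have h6 : π.ker = zpowers ζ := Subgroup.ext fun g => (H.ker g).trans (mem_zp2 H.sq).symm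
  have h7 : Nat.card (zpowers ζ) = 2 := card_zp2 (orderOf_eq_prime ((_root_.sq ζ).trans H.sq) H.ne)
  have h8 : Nat.card (K.map π) * Nat.card ↥(K ⊓ π.ker) = Nat.card K := by
    rw [← relIndex_ker, inf_comm, ← card_subgroupOf, relIndex, index_mul_card]
  have h9 : Nat.card ↥(K ⊓ π.ker) = 1 := by
    have : 0 < Nat.card ↥(K ⊓ π.ker) := Nat.card_pos
    nlinarith
  haveI : (zpowers ζ).Normal := h6 ▸ inferInstance
  rw [h6, card_eq_one] at h9
  refine XS.gaschutz_abs (Y := K ⊔ zpowers ζ) le_sup_right ?_ le_sup_left h9 rfl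
  have h10 := (K ⊔ zpowers ζ).card_mul_index
  rw [card_sup_of_disjoint (Or.inr (by rw [normalizer_eq_top]; exact le_top)) h9, h7, ← π.ker.card_mul_index, index_ker,
    H.rg, card_E8, h6, h7, show Nat.card K = 2 ^ 12 by rw [h6, h9, card_bot] at h8; omega] at h10
  rw [h7, show (K ⊔ zpowers ζ).index = 42525 by omega]
  norm_num

end CA.Co
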