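import Cfsg.Agent.Lib.Co.CT6
import Cfsg.Agent.Lib.Co.Top2

/-!
Conway's extra automorphism, generation of `Co0`, and the action of its image in a group of Conway type.
-/

set_option autoImplicit false

namespace CA.Co
open Cfsg CA.Gol CA CA.Ex2 Subgroup
open scoped Matrix Pointwise

def XM : ℕ := 0x8480808080807c80807c80808080808080807c80808080808084808080808080808080807c807c80807c8080808080808080847c807c808080807c8080808080808080808080808080807c84807c808080807c80808080808080808080808080808080808480807c7c8080808080807c808080808080808080807c7c8084808080807c808080808080808080808080807c80808080808480807c80808080808080807c8080808080808080807c8080847c8080808080807c8080808080808080808080807c80807c848080808080807c80808080808080807c80808080807c80808480808080808080807c808080808080807c7c807c808080808480808080808080808080808080808080808080808080808084807c80807c80807c80808080807c8080808080808080808084807c80807c80808080808080808080808080808080807c80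8480807c80807c80808080807c808080808080808080807c808480807c808080808080808080807c80807c7c80808080808084808080808080808080808080808080808080807c807c80808480807c80808080807c808080808080808080807c807c8080848080808080807c80808080807c80807c808080808080808084808080808080808080808080808080807c807c80807c8080848080808080808080808080808080808080808080808080807c8484848080808080808080808080808080808080808080847c8484808080808080808080808080808080808080808084847c8480808080808080808080808080808080808080808484847c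
theorem XM_ok : ckM XM XM = true := by decide +kernel

/-- Conway's automorphism -/
noncomputable def eta : Co0 := coM XM_ok

theorem eta_smul (v : LL) : ((eta • v : LL) : ZV) = xi v := by
  have h : mat XM = (4 : ℤ) • xiM := by decide +kernel
  funext p
  rw [eta, coM_smul, fM, xi, h, Matrix.smul_mulVec, Pi.smul_apply, smul_eq_mul]
  omega

theorem eta_sq : eta * eta = 1 := co_ext' fun v => by rw [mul_smul, eta_smul, eta_smul, xi_xi v.2, one_smul]

theorem eta_inv : eta⁻¹ = eta := inv_eq_of_mul_eq_one_right eta_sq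

theorem rep_eta : Rep eta (repM XM) := rep_coM XM_ok

theorem eta_mr {g h : Co0} {c p d q : ℕ} (h1 : MR g c p) (h2 : MR h d q) (k : ckMI XM c p d q = true) :
    eta * g * eta = h := by
  obtain ⟨k1, σ, rfl, rfl⟩ := h1
  obtain ⟨k2, τ, rfl, rfl⟩ := h2
  rw [eta, coM_mono XM_ok k1 k2 k, mul_assoc, show coM XM_ok * coM XM_ok = 1 from eta_sq, mul_one]

theorem eta_cent : eta ∈ 𝐂[eps] :=
  conj_eq_iff_mem_cent1.1 (by rw [eta_inv]; exact eta_mr mr_eps mr_eps (by decide +kernel))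

attribute [irreducible] XM eta

namespace Gen
open Cfsg.Agent.S5593 (b1 exists_move)

/-- equivalent to the class of the base vector -/
def R (x : ZV) : Prop := ∃ hx : x ∈ leechLattice, ∃ g ∈ N0 ⊔ zpowers eta, Cg (g • (⟨x, hx⟩ : LL) : LL) b1

theorem R_of {x y : ZV} (hx : x ∈ leechLattice) {e : Co0} (he : e ∈ N0 ⊔ zpowers eta)
    (k : ((e • (⟨x, hx⟩ : LL) : LL) : ZV) = y) (h : R y) : R x := by
  obtain ⟨h1, g, hg, h2⟩ := h
  exact ⟨hx, g * e, mul_mem hg he, by rwa [mul_smul, show e • (⟨x, hx⟩ : LL) = ⟨y, h1⟩ from Subtype.ext k]⟩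

theorem R_pm {g : Equiv.Perm GolayPt} (hg : g ∈ M24) {x : ZV} (hx : x ∈ leechLattice) (h : R (pm g x)) : R x :=
  R_of hx (mem_sup_left ⟨∅, empty_mem_CW, ⟨g, hg⟩, by rw [sgC_empty, one_mul]⟩) (pmC_smul ⟨g, hg⟩ _) h

theorem R_sg {d : Finset GolayPt} (hd : d ∈ CW) {x : ZV} (hx : x ∈ leechLattice) (h : R (sg d x)) : R x :=
  R_of hx (mem_sup_left ⟨d, hd, 1, by rw [map_one, mul_one]⟩) (sgC_smul hd _) h

theorem R_xi {x : ZV} (hx : x ∈ leechLattice) (h : R (xi x)) : R x :=
  R_of hx (mem_sup_right (mem_zpowers _)) (eta_smul _) h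

theorem R_of_congr {x y w : ZV} (hw : w ∈ leechLattice) (e : x = y + (2 : ℤ) • w) (h : R y) : R x := by
  obtain ⟨h1, g, hg, h2⟩ := h
  have hx : x ∈ leechLattice := e ▸ add_mem h1 (zsmul_mem hw _)
  exact ⟨hx, g, hg, (Cg.co (v := ⟨x, hx⟩) (w := ⟨y, h1⟩) ⟨w, hw, sub_eq_of_eq_add' e⟩ g).trans h2⟩

theorem R_five {s : Finset GolayPt} (hs : s.card = 5) : R fun p => 1 - 4 * iz s p := by
  obtain ⟨g, hg, e⟩ := exists_smul_eq (s := s) (t := fs 31) hs.le (by rw [hs, card_fs]; decide +kernel)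
  refine R_pm hg (one_sub_mem (by rw [hs]; decide)) ?_
  have : pm g (fun p => 1 - 4 * iz s p) = b1 := by
    funext p; rw [b1, ← e, ← pm_iz]; rfl
  rw [this]
  exact ⟨one_sub_mem (by rw [card_fs]; decide +kernel), 1, one_mem _, by rw [one_smul]; exact Cg.refl _⟩

theorem R_one {y : ZV} (hn : sqNorm (fun p => 1 + 4 * y p) = 64) : R fun p => 1 + 4 * y p := by
  have e : ∑ p, (y p + 2 * y p ^ 2) = 5 := by
    have : ∀ p, (1 + 4 * y p) ^ 2 = 1 + 8 * (y p + 2 * y p ^ 2) := fun p => by ring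
    simp only [sqNorm, this] at hn
    rw [Finset.sum_add_distrib, ← Finset.mul_sum, Finset.sum_const, Finset.card_univ, card_golayPt] at hn
    simp only [nsmul_eq_mul] at hn
    omega
  have h1 : ∀ p, y p = -1 ∨ y p = 0 ∨ y p = 1 := by
    intro p
    have := Finset.single_le_sum (f := fun p => y p + 2 * y p ^ 2) (s := Finset.univ)
      (fun q _ => by rcases le_or_gt 0 (y q) with h | h <;> nlinarith) (Finset.mem_univ p)
    rw [e] at this
    have k1 : -2 < y p := by nlinarith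
    have k2 : y p < 2 := by nlinarith
    omega
  set A := Finset.univ.filter fun p => y p = -1 with hA
  set B := Finset.univ.filter fun p => y p = 1 with hB
  have h2 : ∀ p, (y p = -1 ∧ iz A p = 1 ∧ iz B p = 0) ∨ (y p = 0 ∧ iz A p = 0 ∧ iz B p = 0) ∨
      (y p = 1 ∧ iz A p = 0 ∧ iz B p = 1) := fun p => by
    rcases h1 p with h | h | h <;> simp [iz, hA, hB, h]
  have h3 : (A.card : ℤ) + 3 * B.card = 5 := by
    rw [← e, ← sum_iz, ← sum_iz, Finset.mul_sum, ← Finset.sum_add_distrib]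
    refine Finset.sum_congr rfl fun p _ => ?_
    rcases h2 p with h | h | h <;> rw [h.1, h.2.1, h.2.2] <;> rfl
  by_cases h0 : B.card = 0
  · convert R_five (s := A) (by omega) using 2 with p
    have k := Finset.card_eq_zero.1 h0
    rcases h2 p with h | h | h
    · omega
    · omega
    · rw [k] at h; simp [iz] at h
  · have hd : Disjoint A B := Finset.disjoint_left.2 fun p h1 h2 => by
      simp only [hA, hB, Finset.mem_filter] at h1 h2; omega
    have hc : (A ∪ B).card = 3 := by rw [Finset.card_union_of_disjoint hd]; omega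
    obtain ⟨o, ho, hs⟩ := exists_octad_superset (s := A ∪ B) (by omega)
    refine R_of_congr (sub_mem (two_iz_mem ho.1) (four_mem (y := iz A) (by rw [sum_iz]; omega))) ?_
      (R_five (s := o \ (A ∪ B)) (by rw [Finset.card_sdiff_of_subset hs, ho.2, hc]))
    funext p
    have k : iz o p = iz (o \ (A ∪ B)) p + iz A p + iz B p := by
      by_cases k1 : p ∈ A
      · simp [iz, k1, hs (Finset.mem_union_left _ k1), Finset.disjoint_left.1 hd k1]
      · by_cases k2 : p ∈ B
        · simp [iz, k1, k2, hs (Finset.mem_union_right _ k2)]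
        · simp [iz, k1, k2]
    have := h2 p
    simp only [Pi.add_apply, Pi.smul_apply, Pi.sub_apply, smul_eq_mul]
    omega

theorem R_odd {x : ZV} (hx : x ∈ leechLattice) (hn : sqNorm x = 64) (h : ¬ 2 ∣ x (pt 0)) : R x := by
  obtain ⟨m, c, y, hc, e, -⟩ := mem_leech.1 hx
  have h0 := e (pt 0)
  have key : ∀ d ∈ CW, (∀ p, sg d x p % 4 = 1) → R x := by
    intro d hd h1
    refine R_sg hd hx ?_
    have e1 : sg d x = fun p => 1 + 4 * (sg d x p / 4) := funext fun p => by have := h1 p; omega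
    have := (isCo_sg hd).norm hx
    rw [e1] at this ⊢
    exact R_one (this.trans hn)
  by_cases hm : m % 4 = 1
  · refine key c hc fun p => ?_
    have := e p
    rcases iz_cases c p with h | h <;> simp only [sg, h.1, if_true, if_false] <;> omega
  · refine key _ (compl_mem_CW hc) fun p => ?_
    have := e p
    rcases iz_cases c p with h | h <;> simp only [sg, h.1, if_true, if_false, Finset.mem_sdiff, Finset.mem_univ,
      not_true, not_false_iff, and_false, and_true] <;> omega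

theorem R_step {x : ZV} (hx : x ∈ leechLattice) (hn : sqNorm x = 64) {k : ℤ} {s : Finset GolayPt}
    (h0 : 0 < s.card) (h1 : s.card ≤ 21) (h : ∀ p, 2 * k ∣ x p - k * iz s p)
    (ih : ∀ y ∈ leechLattice, sqNorm y = 64 → 2 * k ∣ 2 * y (pt 0) - k → R y) : R x := by
  obtain ⟨g, hg, a0, a1, a2, a3⟩ := exists_move h0 h1
  have hx' := pm_mem hg hx
  refine R_pm hg hx (R_xi hx' (ih _ (xi_spec hx').1
    (by rw [isCo_xi.norm hx', (isCo_pm hg).norm hx, hn]) ?_))
  rw [xi_zero hx']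
  have k0 := h (g⁻¹ (pt 0))
  have k1 := h (g⁻¹ (pt 1))
  have k2 := h (g⁻¹ (pt 2))
  have k3 := h (g⁻¹ (pt 3))
  rw [iz, if_pos a0] at k0
  rw [iz, if_neg a1] at k1
  rw [iz, if_neg a2] at k2
  rw [iz, if_neg a3] at k3
  have := dvd_sub (dvd_sub (dvd_add (dvd_add k1 k2) k3) k0) (dvd_refl (2 * k))
  rwa [show x (g⁻¹ (pt 1)) - k * 0 + (x (g⁻¹ (pt 2)) - k * 0) + (x (g⁻¹ (pt 3)) - k * 0) - (x (g⁻¹ (pt 0)) - k * 1) -
    2 * k = pm g x (pt 1) + pm g x (pt 2) + pm g x (pt 3) - pm g x (pt 0) - k by simp only [pm]; ring] at this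

theorem R_two {x : ZV} (hx : x ∈ leechLattice) (hn : sqNorm x = 64) {q : GolayPt} (h : 4 ∣ x q - 2) : R x := by
  obtain ⟨c, hc, y, e, -⟩ := even_form hx (q := q) (by omega)
  have h4 := card_mul_le_sqNorm x c 4 fun p hp => by
    have := e p
    rw [iz, if_pos hp] at this
    exact sq_ge_of_ne (k := 2) (by norm_num) (by omega)
  refine R_step hx hn (k := 2) (s := c) (Finset.card_pos.2 ⟨q, ?_⟩) (by omega) (fun p => by rw [e p]; omega)
    fun y hy h1 h2 => R_odd hy h1 (by omega)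
  have := e q
  rcases iz_cases c q with h | h
  · exact h.1
  · omega

theorem R_pow {x : ZV} (hx : x ∈ leechLattice) (hn : sqNorm x = 64) {k : ℤ} (hk : k = 4 ∨ k = 8) (h4 : ∀ p, k ∣ x p)
    {q : GolayPt} (h : ¬ 2 * k ∣ x q) (ih : ∀ y ∈ leechLattice, sqNorm y = 64 → 2 * k ∣ 2 * y (pt 0) - k → R y) :
    R x := by
  set s := Finset.univ.filter fun p => ¬ 2 * k ∣ x p with hs
  have h5 := card_mul_le_sqNorm x s 16 fun p hp => by
    have := h4 p
    rw [hs, Finset.mem_filter] at hp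
    exact sq_ge_of_ne (k := 4) (by norm_num) (by rcases hk with rfl | rfl <;> omega)
  refine R_step hx hn (s := s) (Finset.card_pos.2 ⟨q, by simp [hs, h]⟩) (by omega) (fun p => ?_) ih
  have := h4 p
  rcases iz_cases s p with h | h <;> rw [h.2] <;> simp only [hs, Finset.mem_filter, Finset.mem_univ, true_and] at h <;>
    rcases hk with rfl | rfl <;> omega

theorem R_four {x : ZV} (hx : x ∈ leechLattice) (hn : sqNorm x = 64) {q : GolayPt} (h : ¬ 8 ∣ x q) : R x := by
  by_cases h1 : 2 ∣ x (pt 0)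
  · by_cases h2 : ∀ p, 4 ∣ x p
    · exact R_pow hx hn (Or.inl rfl) h2 (q := q) h fun y hy k1 k2 => R_two hy k1 (q := pt 0) (by omega)
    · push Not at h2
      obtain ⟨p, hp⟩ := h2
      have := same_parity hx p (pt 0)
      exact R_two hx hn (q := p) (by omega)
  · exact R_odd hx hn h1

theorem R_all {x : ZV} (hx : x ∈ leechLattice) (hn : sqNorm x = 64) : R x := by
  by_cases h : ∀ p, 8 ∣ x p
  · obtain ⟨q, hq⟩ : ∃ q, ¬ 16 ∣ x q := by
      by_contra hcon
      push Not at hcon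
      have : x = (16 : ℤ) • fun p => x p / 16 := funext fun p => by
        have := hcon p
        simp only [Pi.smul_apply, smul_eq_mul]; omega
      rw [this, sqNorm_smul] at hn
      omega
    exact R_pow hx hn (Or.inr rfl) h (q := q) hq fun y hy k1 k2 => R_four hy k1 (q := pt 0) (by omega)
  · push Not at h
    obtain ⟨q, hq⟩ := h
    exact R_four hx hn hq


end Gen

theorem co0_gen : N0 ⊔ zpowers eta = ⊤ := eq_top_iff.2 fun g _ => by
  obtain ⟨_, k, hk, e⟩ := Gen.R_all (g • E8 (pt 0)).2 (norm_smul_E8 g _)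
  obtain ⟨_, l, hl, e'⟩ := Gen.R_all (E8 (pt 0)).2 (norm_e8 _)
  have : l⁻¹ * k * g ∈ N0 := (mem_N0_iff (pt 0) (pt 0)).2 (by
    simpa only [mul_smul, inv_smul_smul, coe_E8] using Cg.co (v := k • g • E8 (pt 0)) (w := l • E8 (pt 0)) (e.trans e'.symm) l⁻¹)
  exact (mul_mem_cancel_left (mul_mem (inv_mem hl) hk)).1 (mem_sup_left this)

/-! ### Words -/

open Classical in
/-- a monomial element from a codeword and the inverse permutation -/
noncomputable def mi (c q : ℕ) : Co0 := if h : inM24 q = true then coN c h else 1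

def okM (c q : ℕ) : Bool := isCode c && inM24 q

theorem mi_spec {c q : ℕ} (h : okM c q = true) : mi c q ∈ N0 ∧ Rep (mi c q) (repN c q) := by
  rw [okM, Bool.and_eq_true] at h
  rw [mi, dif_pos h.2]
  exact ⟨coN_mem c h.1 h.2, rep_coN h.1 h.2⟩

/-- words in `eta` and monomial elements -/
noncomputable def wE (l : List (ℕ × ℕ)) : Co0 := (l.map fun e => eta * mi e.1 e.2).prod

def evW (l : List (ℕ × ℕ)) (U : ℕ) : (ℕ → Bool) → Bool :=
  List.rec (fun k => k U) (fun e _ ih k => okM e.1 e.2 && ih fun W => pk (repN e.1 e.2 W) fun W' => pk (repM XM W') k) l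

theorem Rep.pk {g : Co0} {F : ℕ → ℕ → ℤ} (h : Rep g F) {U : ℕ} {v : LL} (hv : (v : ZV) = vec U) {k : ℕ → Bool}
    (e : pk (F U) k = true) : ∃ W, k W = true ∧ ((g • v : LL) : ZV) = vec W := by
  obtain ⟨W, h1, h2⟩ := pk_spec e
  exact ⟨W, h1, (h U v hv).trans h2.symm⟩

theorem evW_spec {l : List (ℕ × ℕ)} {U : ℕ} {v : LL} (hv : (v : ZV) = vec U) {k : ℕ → Bool} (h : evW l U k = true) :
    ∃ W, k W = true ∧ ((wE l • v : LL) : ZV) = vec W := by
  induction l generalizing k with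
  | nil => exact ⟨U, h, by rw [wE, List.map_nil, List.prod_nil, one_smul, hv]⟩
  | cons e l ih =>
    obtain ⟨h1, h2⟩ := Bool.and_eq_true_iff.1 h
    obtain ⟨W, h3, h4⟩ := ih h2
    obtain ⟨W', h5, h6⟩ := (mi_spec h1).2.pk h4 h3
    obtain ⟨W'', h7, h8⟩ := rep_eta.pk h6 h5
    exact ⟨W'', h7, by rw [wE, List.map_cons, List.prod_cons, mul_smul, mul_smul]; exact h8⟩

/-- the packed vector `8 e_i` -/
def pE (i : ℕ) : ℕ := Nat.add 0x808080808080808080808080808080808080808080808080 (Nat.shiftLeft 8 (Nat.mul 8 i))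

theorem vec_pE (p : GolayPt) : (E8 p : ZV) = vec (pE (ix p)) := by revert p; decide +kernel

theorem wE_eq_one {l : List (ℕ × ℕ)} (h : allLt (fun i => evW l (pE i) (Nat.beq (pE i))) 24 = true) : wE l = 1 :=
  co_ext8 fun p => Subtype.ext (by
    obtain ⟨W, h1, h2⟩ := evW_spec (vec_pE p) (allLt_iff.1 h _ (ix_lt p))
    rw [h2, ← beq_iff.1 h1, one_smul, vec_pE])

/-! ### The intersection of two adjacent frame stabilisers -/

/-- the image in `Co1` -/
noncomputable def et1 : Spor.Co1 := eta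

theorem et1_sq : et1 * et1 = 1 := congrArg QuotientGroup.mk eta_sq
theorem et1_inv : et1⁻¹ = et1 := inv_eq_of_mul_eq_one_right et1_sq
theorem et1_can (x : Spor.Co1) : et1 * (et1 * x) = x := by rw [← mul_assoc, et1_sq, one_mul]
theorem et1_cent : et1 ∈ 𝐂[i0 zs] := cent_eps.2 eta_cent

theorem exists_cube : ∃ a ∈ E1, (et1 * a) ^ 3 = 1 := by
  have h := wE_eq_one (l := [(0x5a1007, oneC), (0x5a1007, oneC), (0x5a1007, oneC)]) (by decide +kernel)
  have k : inM24 oneC = true := by decide +kernel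
  refine ⟨(mi 0x5a1007 oneC : Co0), mem_E1.2 ⟨_, fs_mem_CW (m := 0x5a1007) (by decide +kernel), ?_⟩, ?_⟩
  · rw [mi, dif_pos k, coN, show m24 k = 1 from m24_ext ((code_m24 k).trans code_one.symm), inv_one, map_one, mul_one]
  · simp only [wE, List.map_cons, List.map_nil, List.prod_cons, List.prod_nil, mul_one] at h
    rw [et1, ← QuotientGroup.mk_mul, ← QuotientGroup.mk_pow, pow_three, h]; rfl

/-- centralising the largest normal 2-subgroup of the intersection -/
def CR (y : Spor.Co1) : Prop := ∀ d ∈ E1, et1 * d * et1 ∈ N1 → y ∈ 𝐂[d] ∧ y ∈ 𝐂[et1 * d * et1]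

theorem CR.spec {y : Spor.Co1} (h : CR y) : y ∈ E1 ∧ y ∈ 𝐂[et1] := by
  obtain ⟨g, rfl⟩ := QuotientGroup.mk_surjective y
  have k : allLt (fun j => force (fld 24 0x4890ccc0063a922846168126265640066489 j) fun d =>
      force (fld 24 0x10f130258c5644229a96009d028b0b01036 j) fun e => force (fld 120 0xb9ab47ca289b9a749170658aa10c012a6b49c9d07c5a7312c862eea080628a64d9d6f07968c32ac83adc400443759b2850b345eac5a92f39a24004432ae4d9d5d07c68ab30c8226e7188202da959b5d07c64459d2851aec00443 j) fun t =>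
      isOct d && isCode e && inM24 t && ckMI XM d oneC e t) 6 = true := by decide +kernel
  have k1 : allLt (fun p => allLt (fun q => Nat.beq p q || anyLt (fun j =>
      xor (tb (fld 24 0x4890ccc0063a922846168126265640066489 j) p) (tb (fld 24 0x4890ccc0063a922846168126265640066489 j) q))
      6) 24) 24 = true := by decide +kernel
  have k2 : allLt (fun i => force (enc i) fun c => anyLt (fun j => force (fld 24 0x10f130258c5644229a96009d028b0b01036 j)
      fun e => !(eqc (Nat.xor c (apM oneC e)) (Nat.xor e (apM (fld 120 0xb9ab47ca289b9a749170658aa10c012a6b49c9d07c5a7312c862eea080628a64d9d6f07968c32ac83adc400443759b2850b345eac5a92f39a24004432ae4d9d5d07c68ab30c8226e7188202da959b5d07c64459d2851aec00443 j) c)))) 6 || ckMI XM c oneC c oneC) 4096 =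
      true := by decide +kernel
  simp only [allLt_iff, anyLt_iff, force_eq, Bool.and_eq_true, Bool.or_eq_true, beq_iff] at k k1 k2
  generalize fld 24 0x4890ccc0063a922846168126265640066489 = d at k k1
  generalize fld 24 0x10f130258c5644229a96009d028b0b01036 = e at k k2
  generalize fld 120 0xb9ab47ca289b9a749170658aa10c012a6b49c9d07c5a7312c862eea080628a64d9d6f07968c32ac83adc400443759b2850b345eac5a92f39a24004432ae4d9d5d07c68ab30c8226e7188202da959b5d07c64459d2851aec00443 = t at k k2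
  have h1 := fun j hj => mem_octads.1 (fs_mem_octads (k j hj).1.1.1)
  have h2 := fun j hj => mr_sg (c := d j) (Bool.and_eq_true_iff.1 (isOct.eq_1 _ ▸ (k j hj).1.1.1)).1
  have h3 := fun j hj => mr_mo (k j hj).1.1.2 (k j hj).1.2
  have h4 : ∀ j < 6, et1 * (sgC (fs (d j)) : Co0) * et1 = (mo (e j) (t j) : Co0) := fun j hj => by
    rw [← eta_mr (h2 j hj) (h3 j hj) (k j hj).2]; rfl
  have h5 := fun j hj => h _ (h2 j hj).mem_E1 (h4 j hj ▸ mk_mem_N1.2 (h3 j hj).mem)
  have h6 : ∀ p, ((g • E8 p : LL) : ZV) = e8 p ∨ ((g • E8 p : LL) : ZV) = -e8 p := fun p => by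
    refine eq_e8_of_supp (norm_smul_E8 g p) fun q hq => ?_
    obtain ⟨j, hj, e⟩ := (k1 _ (ix_lt p) _ (ix_lt q)).resolve_left fun e => hq (ix_inj e).symm
    refine eig_apply (h1 j hj).1 (h1 j hj).1 (mem_cent1_iff.1 (cent_lift (h1 j hj).1 (by rw [(h1 j hj).2]; norm_num)
      (h5 j hj).1)).symm _ _ fun h3 => ?_
    rw [mem_fs, mem_fs, ← tb_eq, ← tb_eq, Bool.eq_iff_iff.symm] at h3
    rw [h3, Bool.xor_self] at e
    exact absurd e (by decide)
  obtain ⟨c, hc, σ, rfl⟩ := mem_N0_of_e8 (h6 (pt 0))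
  obtain rfl : σ = 1 := Subtype.ext (Equiv.ext fun p => by
    have h4 : (if σ.1 p ∈ c then -1 else 1 : ℤ) ≠ 0 := by split_ifs <;> norm_num
    rcases h6 p with e | e <;> rw [mono_E8 hc] at e
    · exact (smul_e8_inj (ε' := 1) (q := p) h4 (by rw [e, one_smul])).1
    · exact (smul_e8_inj (ε' := -1) (q := p) h4 (by rw [e, neg_one_smul])).1)
  obtain ⟨i, hi, rfl⟩ := exists_enc hc
  rw [map_one, mul_one] at h5 ⊢
  have h7 := mr_sg (isCode_enc hi)
  refine ⟨h7.mem_E1, mk_mem_cent (mem_cent1_comm.1 (conj_eq_iff_mem_cent1.1 ?_))⟩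
  rw [eta_inv]
  refine eta_mr h7 h7 ((k2 i hi).resolve_left fun ⟨j, hj, e⟩ => ?_)
  have := (h7.mul (h3 j hj)).of_mk_eq ((h3 j hj).mul h7) (mem_cent1_iff.1 (h4 j hj ▸ (h5 j hj).2))
  rw [(Bool.and_eq_true_iff.1 this).1] at e
  exact absurd e (by decide)

theorem cent_conj {G : Type*} [Group G] {y m d : G} (h : y ∈ 𝐂[m * d * m⁻¹]) : m⁻¹ * y * m ∈ 𝐂[d] :=
  mem_cj.1 (cj_centralizer_singleton m d ▸ h)

theorem CR.conj {y m : Spor.Co1} (h : CR y) (h1 : m ∈ N1) (h2 : et1 * m * et1 ∈ N1) : CR (m⁻¹ * y * m) := fun d hd k => by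
  have e : et1 * (et1 * m * et1 * d * (et1 * m * et1)⁻¹) * et1 = m * (et1 * d * et1) * m⁻¹ := by
    simp only [mul_inv_rev, et1_inv, mul_assoc, et1_can, et1_sq, mul_one]
  refine ⟨cent_conj (h _ (E1_conj h1 hd) ?_).1, cent_conj (e ▸ (h _ (E1_conj h2 hd) ?_).2)⟩
  · have := mul_mem (mul_mem h2 k) (inv_mem h2)
    simpa only [mul_inv_rev, et1_inv, mul_assoc, et1_can] using this
  · exact e ▸ mul_mem (mul_mem h1 k) (inv_mem h1)

theorem cr_z : CR (i0 zs) := fun _ hd _ => ⟨mem_cent1_comm.1 (E1_le_cent hd),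
  mem_cent1_comm.1 (mul_mem (mul_mem et1_cent (E1_le_cent hd)) et1_cent)⟩

theorem chi_eta {G : Type*} [Group G] {ι : Hs →* G} {ψ : ↥𝐂[i0 zs] →* G} (h : CT ι) (H : HI i0 ι ψ) {χ : N1 →* G}
    (hχ : ∀ n ∈ N1, n ∈ 𝐂[i0 zs] → pel χ n = pel ψ n) {m : Spor.Co1} (h1 : m ∈ N1) (h2 : et1 * m * et1 ∈ N1) :
    pel ψ et1 * pel χ m * pel ψ et1 = pel χ (et1 * m * et1) := by
  have c0 := et1_cent
  have e0 : (pel ψ et1)⁻¹ = pel ψ et1 := by rw [← pel_inv ψ c0, et1_inv]
  have c1 : m * et1 * m⁻¹ ∈ 𝐂[i0 zs] := mem_cent1_comm.1 (by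
    rw [← cj_centralizer_singleton, mem_cj]; exact (cr_z.conj h1 h2).spec.2)
  obtain ⟨D, hD⟩ : ∃ D, pel χ m * pel ψ et1 * (pel χ m)⁻¹ = pel ψ (m * et1 * m⁻¹) * D := ⟨_, (mul_inv_cancel_left _ _).symm⟩
  have k1 : ∀ r ∈ N1, r ∈ 𝐂[i0 zs] → m⁻¹ * r * m ∈ 𝐂[i0 zs] → et1 * (m⁻¹ * r * m) * et1 ∈ N1 → D ∈ 𝐂[pel ψ r] :=
    fun r r1 r2 r3 r4 => by
      have r5 := mul_mem (mul_mem (inv_mem h1) r1) h1
      have r6 := mul_mem (mul_mem c0 r3) c0
      have r7 := mul_mem (mul_mem c1 r2) (inv_mem c1)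
      have e : m * (et1 * (m⁻¹ * r * m) * et1) * m⁻¹ = m * et1 * m⁻¹ * r * (m * et1 * m⁻¹)⁻¹ := by
        simp only [mul_inv_rev, et1_inv, inv_inv, mul_assoc]
      have := pel_conj χ h1 r4
      rw [hχ _ r4 r6, hχ _ (mul_mem (mul_mem h1 r4) (inv_mem h1)) (e ▸ r7), e, pel_conj ψ c1 r2, pel_mul ψ (mul_mem c0 r3) c0,
        pel_mul ψ c0 r3, ← hχ _ r5 r3, pel_mul χ (mul_mem (inv_mem h1) r1) h1, pel_mul χ (inv_mem h1) r1, pel_inv χ h1,
        hχ r r1 r2] at this
      rw [← conj_eq_iff_mem_cent1, ← mul_left_cancel_iff (a := pel ψ (m * et1 * m⁻¹)),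
        ← mul_right_cancel_iff (a := (pel ψ (m * et1 * m⁻¹))⁻¹), this, ← mul_assoc, ← mul_assoc, ← hD, mul_assoc _ D⁻¹,
        ← mul_inv_rev, ← hD]
      simp only [mul_inv_rev, inv_inv, e0, mul_assoc]
  have k2 : ∀ d ∈ E1, et1 * d * et1 ∈ N1 → D ∈ 𝐂[pel ψ d] ∧ D ∈ 𝐂[pel ψ (et1 * d * et1)] := fun d hd k => by
    have d1 := E1_conj (inv_mem h2) hd
    have e : m⁻¹ * (et1 * d * et1) * m = et1 * ((et1 * m * et1)⁻¹ * d * (et1 * m * et1)⁻¹⁻¹) * et1 := by
      simp only [mul_inv_rev, et1_inv, inv_inv, mul_assoc, et1_can, et1_sq, mul_one]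
    refine ⟨k1 d (E1_le hd) (E1_le_cent hd) (E1_le_cent (by simpa using E1_conj (inv_mem h1) hd)) ?_,
      k1 _ k (mul_mem (mul_mem c0 (E1_le_cent hd)) c0) (e ▸ mul_mem (mul_mem c0 (E1_le_cent d1)) c0) ?_⟩
    · have := mul_mem (mul_mem (inv_mem h2) k) h2
      simpa only [mul_inv_rev, et1_inv, mul_assoc, et1_can] using this
    · rw [e]
      simpa only [mul_assoc, et1_can, et1_sq, mul_one] using E1_le d1
  obtain ⟨w, c2, rfl⟩ := H.pel_surj ct0 h (k := D) (H.pel_io zs ▸ (k2 _ z_mem_E1 (by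
    rw [mem_cent1_iff.1 c0, mul_assoc, et1_sq, mul_one]; exact E1_le z_mem_E1)).1)
  have k3 : ∀ r ∈ 𝐂[i0 zs], pel ψ w ∈ 𝐂[pel ψ r] → w ∈ 𝐂[r] := fun r hr k => mem_cent1_iff.2
    (H.pel_inj ct0 h (mul_mem c2 hr) (mul_mem hr c2) (by rw [pel_mul ψ c2 hr, pel_mul ψ hr c2, mem_cent1_iff.1 k]))
  have k4 : CR w := fun d hd k => ⟨k3 _ (E1_le_cent hd) (k2 d hd k).1,
    k3 _ (mul_mem (mul_mem c0 (E1_le_cent hd)) c0) (k2 d hd k).2⟩
  obtain ⟨a, ha, e⟩ := exists_cube
  have a1 := E1_conj h1 ha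
  have k5 : w * (m * et1 * m⁻¹) = m * et1 * m⁻¹ * w := mem_cent1_iff.1 (by
    rw [← cj_centralizer_singleton, mem_cj]; exact (k4.conj h1 h2).spec.2)
  have k6 : (m * et1 * m⁻¹ * (m * a * m⁻¹) * w) ^ 3 = 1 := H.pel_inj ct0 h
    (pow_mem (mul_mem (mul_mem c1 (E1_le_cent a1)) c2) 3) (one_mem _) (by
      rw [mul_assoc, E1_comm a1 k4.spec.1, ← mul_assoc, pel_pow ψ (mul_mem (mul_mem c1 c2) (E1_le_cent a1)),
        pel_mul ψ (mul_mem c1 c2) (E1_le_cent a1), pel_mul ψ c1 c2, ← hD, ← hχ _ (E1_le a1) (E1_le_cent a1),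
        pel_conj χ h1 (E1_le ha), hχ _ (E1_le ha) (E1_le_cent ha), conj_mul, conj_pow, ← pel_mul ψ c0 (E1_le_cent ha),
        ← pel_pow ψ (mul_mem c0 (E1_le_cent ha)), e, pel_one, mul_one, mul_inv_cancel])
  rw [Commute.mul_pow (Commute.mul_left (show Commute _ w from k5.symm) (E1_comm a1 k4.spec.1)), conj_mul, conj_pow, e,
    mul_one, mul_inv_cancel, one_mul, pow_succ, _root_.sq, E1_sq k4.spec.1, one_mul] at k6
  have k7 : et1 * (m * et1 * m⁻¹) ∈ N1 := by simpa only [mul_assoc] using mul_mem h2 (inv_mem h1)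
  rw [k6, pel_one, mul_one, mul_inv_eq_iff_eq_mul] at hD
  rw [mul_assoc, hD, ← mul_assoc, ← pel_mul ψ c0 c1, ← hχ _ k7 (mul_mem c0 c1), ← pel_mul χ k7 h1]
  simp only [mul_assoc, inv_mul_cancel, mul_one]

/-! ### Simple connectivity -/

section cover
variable {P N : Type*} [Group P] [Group N] (δ : N →* P) (e : P) (l : P → ℕ)

/-- the triangles which close up -/
def Tr (n : N) : Prop := (∃ m, e * δ n * e = δ m) ∨ ∃ m m', e * δ n * e = δ m * e * δ m'

/-- chains of lower neighbours -/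
def Rch (γ : P) : N → N → Prop := Relation.ReflTransGen fun a b => l (γ * δ a * e) < l γ ∧ Tr δ e (a⁻¹ * b)

/-- canonical lifts -/
inductive Xl : P → Prop
  | base (n : N) : Xl (δ n)
  | step (γ : P) (a b : N) : Xl γ → l γ < l (γ * δ a * e) → Xl (γ * δ a * e * δ b)

variable {δ e l}

theorem Xl.mul {γ : P} (h : Xl δ e l γ) (n : N) : Xl δ e l (γ * δ n) := by
  rcases h with ⟨m⟩ | ⟨γ, a, b, h1, h2⟩
  · exact map_mul δ m n ▸ Xl.base _
  · rw [mul_assoc _ (δ b), ← map_mul]; exact Xl.step γ a _ h1 h2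

theorem cover (he : e * e = 1) (h1 : ∀ γ n, l (γ * δ n) = l γ) (h2 : ∀ n a, l (δ n) < l (δ n * δ a * e))
    (h3 : ∀ γ a b, l (γ * δ a * e) < l γ → l (γ * δ b * e) ≤ l γ → Rch δ e l γ a b) {γ : P}
    (hγ : γ ∈ δ.range ⊔ zpowers e) (h0 : l γ = 0) : γ ∈ δ.range := by
  have key : ∀ k γ, l γ = k → Xl δ e l γ → ∀ a, Xl δ e l (γ * δ a * e) := fun k => by
    induction k using Nat.strong_induction_on with
    | _ k ih =>
    intro γ hk hγ a
    by_cases h : l γ < l (γ * δ a * e)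
    · simpa using Xl.step γ a 1 hγ h
    rcases hγ with ⟨n⟩ | ⟨γ0, a0, b0, k1, k2⟩
    · exact absurd (h2 n a) h
    have e1 : γ0 * δ a0 * e * δ b0 * δ b0⁻¹ * e = γ0 * δ a0 := by
      rw [map_inv, mul_inv_cancel_right, mul_assoc, he, mul_one]
    have k3 := h3 _ b0⁻¹ a (by rw [e1, h1, h1]; exact k2) (not_lt.1 h)
    clear h
    induction k3 with
    | refl => exact e1.symm ▸ k1.mul a0
    | @tail c d _ k4 ih2 =>
      generalize γ0 * δ a0 * e * δ b0 = γ at *
      rw [show γ * δ d * e = γ * δ c * e * (e * δ (c⁻¹ * d) * e) by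
        rw [← mul_assoc, ← mul_assoc, mul_assoc _ e e, he, mul_one, mul_assoc γ (δ c), ← map_mul, mul_inv_cancel_left]]
      rcases k4.2 with ⟨m, e2⟩ | ⟨m, m', e2⟩ <;> rw [e2]
      · exact ih2.mul m
      · rw [← mul_assoc, ← mul_assoc]
        exact (ih _ (hk ▸ k4.1) _ rfl ih2 m).mul m'
  have : Xl δ e l γ := by
    rw [← closure_eq δ.range, zpowers_eq_closure, ← Subgroup.closure_union] at hγ
    clear h0
    induction hγ using closure_induction_right with
    | one => exact map_one δ ▸ Xl.base 1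
    | mul_right x _ y hy ih =>
      rcases hy with ⟨n, rfl⟩ | rfl
      · exact ih.mul n
      · simpa using key _ x rfl ih 1
    | mul_inv_cancel x _ y hy ih =>
      rcases hy with ⟨n, rfl⟩ | rfl
      · exact map_inv δ n ▸ ih.mul _
      · simpa [inv_eq_of_mul_eq_one_right he] using key _ x rfl ih 1
  rcases this with ⟨n⟩ | ⟨γ0, a0, b0, -, k2⟩
  · exact ⟨n, rfl⟩
  · rw [h1] at h0; omega

theorem Tr.inv (he : e * e = 1) {n : N} (h : Tr δ e n) : Tr δ e n⁻¹ := by
  have e1 := inv_eq_of_mul_eq_one_right he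
  refine h.imp (fun ⟨m, k⟩ => ⟨m⁻¹, ?_⟩) fun ⟨m, m', k⟩ => ⟨m'⁻¹, m⁻¹, ?_⟩ <;>
    simpa only [mul_inv_rev, e1, map_inv, mul_assoc] using congrArg Inv.inv k

theorem Tr.mul (he : e * e = 1) {n k m : N} (h : Tr δ e n) (hk : e * δ k * e = δ m) : Tr δ e (n * k) := by
  have e1 : e * δ (n * k) * e = e * δ n * e * δ m := by
    rw [← hk, ← mul_assoc, ← mul_assoc, mul_assoc _ e e, he, mul_one, map_mul, ← mul_assoc e]
  exact h.imp (fun ⟨a, k⟩ => ⟨a * m, by rw [e1, k, map_mul]⟩) fun ⟨a, b, k⟩ => ⟨a, b * m, by rw [e1, k, map_mul, mul_assoc _ (δ b)]⟩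

theorem Rch.symm (he : e * e = 1) {γ : P} {a b : N} (h : Rch δ e l γ a b) (hb : l (γ * δ b * e) < l γ) :
    Rch δ e l γ b a := by
  induction h with
  | refl => exact Relation.ReflTransGen.refl
  | tail _ k ih => exact Relation.ReflTransGen.head ⟨hb, by simpa using k.2.inv he⟩ (ih k.1)

theorem Rch.map {γ γ' : P} {s a b : N} (h : Rch δ e l γ a b) (h1 : l γ' = l γ)
    (h2 : ∀ c, l (γ' * δ (s * c) * e) = l (γ * δ c * e)) : Rch δ e l γ' (s * a) (s * b) := by
  induction h with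
  | refl => exact Relation.ReflTransGen.refl
  | tail _ k ih => exact ih.tail ⟨by rw [h1, h2]; exact k.1, by simpa [mul_assoc] using k.2⟩

end cover

end CA.Co
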