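import Cfsg.Agent.Lib.Co.Mono
import Cfsg.Agent.Lib.Golay.Misc

/-!
Kernel computations with lattice vectors and elements of `Co0`: packed vectors and matrices.
-/

set_option autoImplicit false

namespace CA.Co
open Cfsg CA.Gol CA Subgroup
open scoped Pointwise Matrix

/-- entry of a packed vector -/
def vz (T i : ℕ) : ℤ := Int.subNatNat (fld 8 T i) 128

/-- a packed vector -/
def vec (T : ℕ) : ZV := fun p => vz T (ix p)

theorem vz_eq (T i : ℕ) : vz T i = (fld 8 T i : ℤ) - 128 := Int.subNatNat_eq_coe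

theorem vec_pt (T : ℕ) {i : ℕ} (hi : i < 24) : vec T (pt i) = vz T i := by rw [vec, ix_pt hi]

theorem fld_eq (w T i : ℕ) : fld w T i = T / (2 ^ w) ^ i % 2 ^ w := by
  show (T >>> (w * i)) % 2 ^ w = _
  rw [Nat.shiftRight_eq_div_pow, pow_mul]

theorem fld8_lt (T i : ℕ) : fld 8 T i < 256 := fld_lt 8 T i

/-- inner product of packed vectors -/
def dz (T U : ℕ) : ℤ := Int.subNatNat (sumLt (fun i => force (fld 8 T i) fun x => force (fld 8 U i) fun y =>
  Nat.sub (Nat.add (Nat.mul x y) 32768) (Nat.mul 128 (Nat.add x y))) 24) 393216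

theorem dot_vec (T U : ℕ) : dotInt (vec T) (vec U) = dz T U := by
  rw [dz, Int.subNatNat_eq_coe, sumLt_eq, dotInt, sum_pt, Nat.cast_sum,
    show ((393216 : ℕ) : ℤ) = ∑ _i ∈ Finset.range 24, 16384 by simp, ← Finset.sum_sub_distrib]
  refine Finset.sum_congr rfl fun i hi => ?_
  rw [vec_pt _ (Finset.mem_range.1 hi), vec_pt _ (Finset.mem_range.1 hi), vz_eq, vz_eq, force_eq, force_eq]
  have h1 := fld8_lt T i
  have h2 := fld8_lt U i
  generalize fld 8 T i = x at *
  generalize fld 8 U i = y at *
  show _ = ((x * y + 32768 - 128 * (x + y) : ℕ) : ℤ) - _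
  rw [Nat.cast_sub (by zify; nlinarith)]
  push_cast; ring

theorem norm_vec (T : ℕ) : sqNorm (vec T) = dz T T := by rw [sqNorm_eq_dot, dot_vec]

/-- pack the values of `f` and continue -/
def pkC (f : ℕ → ℤ) (k : ℕ → Bool) (n : ℕ) : ℕ → Bool :=
  Nat.rec k (fun n ih acc => Int.casesOn (Int.add (f n) 128) (fun x => force x fun x => Nat.blt x 256 &&
    force (Nat.add (Nat.mul acc 256) x) ih) (fun _ => false)) n

theorem pkC_aux {f : ℕ → ℤ} {k : ℕ → Bool} (n acc : ℕ) (h : pkC f k n acc = true) :
    ∃ W, k W = true ∧ W / 256 ^ n = acc ∧ ∀ i < n, vz W i = f i := by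
  induction n generalizing acc with
  | zero => exact ⟨acc, h, by simp, by simp⟩
  | succ n ih =>
    change Int.casesOn (motive := fun _ => Bool) (f n + 128) (fun x => force x fun x => Nat.blt x 256 &&
      force (Nat.add (Nat.mul acc 256) x) (pkC f k n)) _ = true at h
    rcases e : f n + 128 with x | x <;> rw [e] at h
    · simp only [force_eq, Bool.and_eq_true, blt_iff] at h
      obtain ⟨W, h1, h2, h3⟩ := ih _ h.2
      replace h2 : W / 256 ^ n = acc * 256 + x := h2
      refine ⟨W, h1, by rw [pow_succ, ← Nat.div_div_eq_div_mul, h2]; omega, fun i hi => ?_⟩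
      rcases Nat.lt_succ_iff_lt_or_eq.1 hi with hi | rfl
      · exact h3 i hi
      · rw [vz_eq, fld_eq, show 2 ^ 8 = 256 from rfl, h2]
        have : f i + 128 = x := e
        omega
    · exact absurd h (by simp)

/-- pack a vector and continue -/
def pk (f : ℕ → ℤ) (k : ℕ → Bool) : Bool := pkC f k 24 0

theorem pk_spec {f : ℕ → ℤ} {k : ℕ → Bool} (h : pk f k = true) :
    ∃ W, k W = true ∧ vec W = fun p => f (ix p) := by
  obtain ⟨W, h1, -, h3⟩ := pkC_aux _ _ h
  exact ⟨W, h1, funext fun p => h3 _ (ix_lt p)⟩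

/-- lattice membership -/
def isLP (T : ℕ) : Bool := force (fld 8 T 0) fun a =>
  allLt (fun i => Nat.beq (Nat.mod (Nat.add (fld 8 T i) a) 2) 0) 24 &&
  Nat.beq (Nat.mod (Nat.add (sumLt (fld 8 T) 24) (Nat.mul 4 a)) 8) 0 &&
  force (orl (fun i => Bool.rec 0 (Nat.pow 2 i) (Nat.beq (Nat.mod (Nat.add (fld 8 T i) (Nat.mul 3 a)) 4) 2)) 24) isCode

theorem isLP_mem {T : ℕ} (h : isLP T = true) : vec T ∈ leechLattice := by
  simp only [isLP, force_eq, Bool.and_eq_true, allLt_iff, beq_iff, sumLt_eq] at h
  obtain ⟨⟨h1, h2⟩, h3⟩ := h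
  refine mem_leech.2 (LS_of (m := vz T 0) (fun p => ?_) ?_ ?_)
  · have : (fld 8 T (ix p) + fld 8 T 0) % 2 = 0 := h1 _ (ix_lt p)
    rw [vec, vz_eq, vz_eq]; omega
  · replace h2 : (∑ i ∈ Finset.range 24, fld 8 T i + 4 * fld 8 T 0) % 8 = 0 := h2
    rw [sum_pt, Finset.sum_congr rfl fun i hi => (vec_pt T (Finset.mem_range.1 hi)).trans (vz_eq T i),
      Finset.sum_sub_distrib, ← Nat.cast_sum, vz_eq]
    simp only [Finset.sum_const, Finset.card_range, nsmul_eq_mul]
    omega
  · convert fs_mem_CW h3 using 1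
    ext p
    rw [mem_fs, testBit_orl, Finset.mem_filter, vec, vz_eq, vz_eq]
    constructor
    · rintro ⟨-, h⟩
      refine ⟨ix p, ix_lt p, ?_⟩
      rw [beq_iff.2 (show Nat.mod (Nat.add (fld 8 T (ix p)) (Nat.mul 3 (fld 8 T 0))) 4 = 2 from
        show (fld 8 T (ix p) + 3 * fld 8 T 0) % 4 = 2 by omega)]
      exact Nat.testBit_two_pow_self
    · rintro ⟨i, -, h⟩
      rcases e : Nat.beq (Nat.mod (Nat.add (fld 8 T i) (Nat.mul 3 (fld 8 T 0))) 4) 2 with _ | _ <;> rw [e] at h
      · simp at h
      · obtain rfl : i = ix p := by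
          have : (2 ^ i).testBit (ix p) = true := h
          rwa [Nat.testBit_two_pow, decide_eq_true_eq] at this
        have : (fld 8 T (ix p) + 3 * fld 8 T 0) % 4 = 2 := beq_iff.1 e
        exact ⟨Finset.mem_univ _, by omega⟩

/-- the packed vector is `2 ^ k` times a lattice vector -/
def dvP (k W : ℕ) : Bool := allLt (fun i => Nat.beq (Nat.mod (fld 8 W i) (Nat.pow 2 k)) 0) 24 &&
  pk (fun i => Int.subNatNat (Nat.shiftRight (fld 8 W i) k) (Nat.shiftRight 128 k)) isLP

theorem dvP_spec {k W : ℕ} (hk : k = 1 ∨ k = 3) (h : dvP k W = true) :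
    ∃ y ∈ leechLattice, vec W = (2 ^ k : ℤ) • y := by
  simp only [dvP, Bool.and_eq_true, allLt_iff, beq_iff] at h
  obtain ⟨W', h1, h2⟩ := pk_spec h.2
  refine ⟨_, isLP_mem h1, funext fun p => ?_⟩
  have : fld 8 W (ix p) % 2 ^ k = 0 := h.1 _ (ix_lt p)
  rw [h2, Pi.smul_apply, Int.subNatNat_eq_coe, vec, vz_eq, smul_eq_mul]
  show _ = 2 ^ k * (((fld 8 W (ix p) >>> k : ℕ) : ℤ) - ((128 >>> k : ℕ) : ℤ))
  rw [Nat.shiftRight_eq_div_pow, Nat.shiftRight_eq_div_pow]
  rcases hk with rfl | rfl <;> norm_num at this ⊢ <;> omega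

/-- the vector with entries `f i` is twice a lattice vector -/
def cg0 (f : ℕ → ℤ) : Bool := pk f (dvP 1)

theorem cg0_spec {f : ℕ → ℤ} (h : cg0 f = true) : Cg (fun p => f (ix p)) 0 := by
  obtain ⟨W, h1, h2⟩ := pk_spec h
  obtain ⟨y, hy, e⟩ := dvP_spec (Or.inl rfl) h1
  exact ⟨y, hy, by rw [← h2, e]; simp⟩

/-- generators of the lattice -/
def genV : ℕ := 0x81818181818181818181818181818181818181818181817d8282828080808282828082808280808080808080808080808280828280808082828280828082808080808080808080808082828282808282808280808080828080808080808080808080828282828082828082808080808280808080808080808080808282828280828280828080808082808080808080808282828082828080828280808080808080828080808080808280828280828280808282808080808080808280808080808280808282808282808082828080808080808082808080808082828082828280808082828080808080808080828080808282808280828080828082828080808080808080808280808082808082808082828282828080808080808080808082808282808080828282808280828080808080808080808080828480808080808080808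08080808080808080808080808084808480808080808080808080808080808080808080808084808084808080808080808080808080808080808080808084808080848080808080808080808080808080808080808084808080808480808080808080808080808080808080808084808080808084808080808080808080808080808080808084808080808080848080808080808080808080808080808084808080808080808480808080808080808080808080808084808080808080808084808080808080808080808080808084808080808080808080848080808080808080808080808084808080808080808080808480808080808080808080808084808080808080808080808084808080808080808080808084808080808080808080808080848080808080808080808084808080808080808080808080808480808080808080808084808080808080808080808080808084808080808080808084808080808080808080808080808080848080808080808084808080808080808080808080808080808480808080808084808080808080808080808080808080808084808080808084808080808080808080808080808080808080848080808084808080808080808080808080808080808080808480808084808080808080808080808080808080808080808084808084808080808080808080808080808080808080808080848084808080808080808080808080808080808080808080808484808080808080808080808080808080808080808080808088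

theorem genV_mem {k : ℕ} (hk : k < 37) : vec (fld 192 genV k) ∈ leechLattice :=
  isLP_mem (allLt_iff.1 (show allLt (fun k => isLP (fld 192 genV k)) 37 = true by decide +kernel) k hk)

theorem leech_le_gen {H : AddSubgroup ZV} (h : ∀ k < 37, vec (fld 192 genV k) ∈ H) : leechLattice ≤ H := by
  have h0 : ∀ a, (4 : ℤ) • (iz {a} + iz {pt 0}) ∈ H := fun a => by
    convert h (ix a) (by have := ix_lt a; omega) using 1
    revert a; decide +kernel
  have h4 : ∀ a b, a ≠ b → (4 : ℤ) • iz {a, b} ∈ H := by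
    intro a b hab
    convert sub_mem (add_mem (h0 a) (h0 b)) (h0 (pt 0)) using 1
    funext p
    simp only [Pi.smul_apply, Pi.sub_apply, Pi.add_apply, smul_eq_mul]
    by_cases h1 : p = a <;> by_cases h2 : p = b <;> simp_all [iz] <;> split_ifs <;> simp
  have h2 : ∀ j : Fin 12, (2 : ℤ) • iz (fs (fld 24 basT j)) ∈ H := fun j => by
    convert h (24 + j) (by omega) using 1
    revert j; decide +kernel
  refine leech_le_of h4 (fun j hj => h2 ⟨j, hj⟩) v0_mem ?_ (by decide)
  convert h 36 (by norm_num) using 1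
  decide +kernel

/-- a packed matrix -/
def mat (M : ℕ) : Matrix GolayPt GolayPt ℤ := fun p q => vec (fld 192 M (ix p)) q

theorem mat_mulVec (M U : ℕ) : mat M *ᵥ vec U = fun p => dz (fld 192 M (ix p)) U :=
  funext fun p => dot_vec _ _

/-- the rows are orthogonal of norm 64 and an eighth of the matrix preserves the lattice -/
def ckH (M : ℕ) : Bool :=
  allLt (fun i => force (fld 192 M i) fun a => allLt (fun j => decide (dz a (fld 192 M j) = Bool.rec 0 64 (Nat.beq i j)))
    24) 24 &&
  allLt (fun k => force (fld 192 genV k) fun U => pk (fun i => dz (fld 192 M i) U) (dvP 3)) 37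

/-- check for an element of `Co0` given by a matrix and its transpose -/
def ckM (M N : ℕ) : Bool := ckH M && ckH N &&
  allLt (fun i => allLt (fun j => Nat.beq (fld 8 (fld 192 M i) j) (fld 8 (fld 192 N j) i)) 24) 24

/-- the map given by a matrix -/
def fM (M : ℕ) (x : ZV) : ZV := fun p => (mat M *ᵥ x) p / 8

theorem ckH_orth {M : ℕ} (h : ckH M = true) : mat M * (mat M)ᵀ = (64 : ℤ) • (1 : Matrix GolayPt GolayPt ℤ) := by
  simp only [ckH, Bool.and_eq_true, allLt_iff, force_eq, decide_eq_true_eq] at h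
  ext p q
  have := h.1 _ (ix_lt p) _ (ix_lt q)
  rw [← dot_vec] at this
  refine this.trans ?_
  by_cases e : p = q
  · subst e; simp
  · rw [beq_false_iff.2 fun k => e (ix_inj k)]; simp [e]

theorem ckH_spec {M : ℕ} (h : ckH M = true) {x : ZV} (hx : x ∈ leechLattice) :
    fM M x ∈ leechLattice ∧ mat M *ᵥ x = (8 : ℤ) • fM M x := by
  simp only [ckH, Bool.and_eq_true, allLt_iff, force_eq] at h
  obtain ⟨y, hy, e⟩ := leech_le_gen (H := (leechLattice.map (DistribSMul.toAddMonoidHom ZV (8 : ℤ))).comap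
    (Matrix.mulVecLin (mat M)).toAddMonoidHom) (fun k hk => by
      obtain ⟨W, h1, h2⟩ := pk_spec (h.2 k hk)
      obtain ⟨y, hy, e⟩ := dvP_spec (Or.inr rfl) h1
      exact ⟨y, hy, e.symm.trans (h2.trans (mat_mulVec _ _).symm)⟩) hx
  replace e : (8 : ℤ) • y = mat M *ᵥ x := e
  have : fM M x = y := by
    funext p
    rw [fM, ← e, Pi.smul_apply, smul_eq_mul]; omega
  rw [this]; exact ⟨hy, e.symm⟩

theorem eight_cancel {x y : ZV} (h : (8 : ℤ) • x = (8 : ℤ) • y) : x = y := smul_right_injective _ (by norm_num) h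

theorem fM_fM {M N : ℕ} (h : ckH M = true) (h' : ckH N = true) (e : mat N = (mat M)ᵀ) {x : ZV}
    (hx : x ∈ leechLattice) : fM M (fM N x) = x := by
  have h1 := ckH_spec h' hx
  have h2 := ckH_spec h h1.1
  apply eight_cancel
  apply eight_cancel
  rw [← h2.2, ← Matrix.mulVec_smul, ← h1.2, Matrix.mulVec_mulVec, e, ckH_orth h, Matrix.smul_mulVec,
    Matrix.one_mulVec, smul_smul]
  rfl

theorem isCo_M {M N : ℕ} (h : ckM M N = true) : IsCo (fM M) := by
  simp only [ckM, Bool.and_eq_true, allLt_iff, beq_iff] at h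
  obtain ⟨⟨h1, h2⟩, h3⟩ := h
  have e : mat N = (mat M)ᵀ := by
    ext p q
    simp only [mat, vec, vz, Matrix.transpose_apply, h3 _ (ix_lt q) _ (ix_lt p)]
  have e' : mat M = (mat N)ᵀ := by rw [e, Matrix.transpose_transpose]
  refine isCo_of (g := fM N) (fun _ h => (ckH_spec h1 h).1) (fun _ h => (ckH_spec h2 h).1)
    (fun _ => fM_fM h1 h2 e) (fun _ => fM_fM h2 h1 e') (fun x hx y hy => ?_) fun x hx => ?_
  · apply eight_cancel
    rw [smul_add, ← (ckH_spec h1 hx).2, ← (ckH_spec h1 hy).2, ← (ckH_spec h1 (add_mem hx hy)).2, Matrix.mulVec_add]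
  · have a1 := sqNorm_smul 8 (fM M x)
    have a2 : sqNorm (mat M *ᵥ x) = 64 * sqNorm x := by
      rw [sqNorm_eq_dot, sqNorm_eq_dot]
      show dotProduct _ _ = 64 * dotProduct x x
      have := ckH_orth h2
      rw [← e'] at this
      rw [Matrix.dotProduct_mulVec, Matrix.vecMul_mulVec, ← e, this, Matrix.vecMul_smul, Matrix.vecMul_one,
        smul_dotProduct, smul_eq_mul]
    rw [← (ckH_spec h1 hx).2, a2] at a1
    omega

/-- the element of `Co0` given by a checked matrix -/
noncomputable def coM {M N : ℕ} (h : ckM M N = true) : Co0 := coOf (isCo_M h)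

theorem coM_smul {M N : ℕ} (h : ckM M N = true) (v : LL) : ((coM h • v : LL) : ZV) = fM M v := coOf_smul _ v

/-- the matrix intertwines two permutations -/
def ckC (M c d : ℕ) : Bool := allLt (fun i => force (fld 192 M i) fun a => force (fld 192 M (ap d i)) fun b =>
  allLt (fun j => Nat.beq (fld 8 b (ap c j)) (fld 8 a j)) 24) 24

theorem coM_comm {M N : ℕ} (h : ckM M N = true) {σ τ : M24} (hc : ckC M (code σ) (code τ) = true) :
    coM h * pmC σ = pmC τ * coM h := by
  simp only [ckC, force_eq, allLt_iff, beq_iff] at hc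
  refine co_ext' fun v => funext fun p => ?_
  obtain ⟨p, rfl⟩ := τ.1.surjective p
  rw [mul_smul, mul_smul, coM_smul, pmC_smul, pmC_smul, coM_smul, pm, Equiv.Perm.inv_def, Equiv.symm_apply_apply, fM,
    fM, Matrix.mulVec, Matrix.mulVec, dotProduct, dotProduct, ← Equiv.sum_comp σ.1]
  congr 1
  refine Finset.sum_congr rfl fun q _ => ?_
  have := hc _ (ix_lt p) _ (ix_lt q)
  rw [ap_code_ix, ap_code_ix] at this
  simp only [mat, vec, vz, this, pm, Equiv.Perm.inv_def, Equiv.symm_apply_apply]

theorem coM_cent {M N : ℕ} (h : ckM M N = true) {σ : M24} (hc : ckC M (code σ) (code σ) = true) :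
    coM h ∈ 𝐂[pmC σ] := mem_cent1_iff.2 (coM_comm h hc)

/-- an element of `M24` from its code -/
noncomputable def m24 {c : ℕ} (h : inM24 c = true) : M24 := ⟨perm c, perm_mem_M24 h⟩

theorem code_m24 {c : ℕ} (h : inM24 c = true) : code (m24 h) = c := code_perm' h

/-- pruning for the search of elements intertwining two permutations -/
def okS (d : ℕ) (b0 b1 b2 b3 b4 b5 f0 f3 f5 : Bool) : List ℕ → Bool
  | [y] => Bool.rec (!(Nat.beq (ap d y) y)) (Nat.beq (ap d y) y) f0
  | [y, x] => Bool.rec true (Nat.beq y (ap d x)) b0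
  | [y, x, _] => Bool.rec true (Nat.beq y (ap d x)) b1
  | [y, x, _, _] => Bool.rec (Bool.rec (!(Nat.beq (ap d y) y)) (Nat.beq (ap d y) y) f3) (Nat.beq y (ap d x)) b2
  | [y, x, _, _, _] => Bool.rec true (Nat.beq y (ap d x)) b3
  | [y, x, _, _, _, _] => Bool.rec (Bool.rec (!(Nat.beq (ap d y) y)) (Nat.beq (ap d y) y) f5) (Nat.beq y (ap d x)) b4
  | [y, _, x, _, _, _, _] => Bool.rec true (Nat.beq y (ap d x)) b5
  | _ => true

/-- the pruning for elements conjugating `c` to `d` -/
def okT (c d : ℕ) : List ℕ → Bool :=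
  okS d (Nat.beq (ap c 23) 0) (Nat.beq (ap c 0) 1) (Nat.beq (ap c 1) 2) (Nat.beq (ap c 2) 3) (Nat.beq (ap c 3) 4)
    (Nat.beq (ap c 3) 5) (Nat.beq (ap c 23) 23) (Nat.beq (ap c 2) 2) (Nat.beq (ap c 4) 4)

theorem pass_okT {g s t : Equiv.Perm GolayPt} (e : g * s = t * g) :
    Pass (okT (code s) (code t)) Ls24 (code g) [] := by
  have key : ∀ x < 24, ∀ y, ∀ b : Bool, b = true → Bool.rec (motive := fun _ => Bool) b
      (Nat.beq (ap (code g) y) (ap (code t) (ap (code g) x))) (Nat.beq (ap (code s) x) y) = true := fun x hx y b hb => by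
    rcases h : Nat.beq (ap (code s) x) y with _ | _
    · exact hb
    · rw [← ap_comm e hx, beq_iff.1 h]; exact beq_iff.2 rfl
  have key2 : ∀ x < 24, Bool.rec (motive := fun _ => Bool) (!(Nat.beq (ap (code t) (ap (code g) x)) (ap (code g) x)))
      (Nat.beq (ap (code t) (ap (code g) x)) (ap (code g) x)) (Nat.beq (ap (code s) x) x) = true := fun x hx => by
    rw [← ap_comm e hx]
    rcases h : Nat.beq (ap (code s) x) x with _ | _
    · show (!_) = true
      rw [Bool.not_eq_true', beq_false_iff, ap_code g (ap_code_lt s hx), ap_code g hx]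
      exact fun k => beq_false_iff.1 h (pt_inj (ap_code_lt s hx) hx (g.injective (ix_inj k)))
    · rw [beq_iff.1 h]; exact beq_iff.2 rfl
  rw [pass24]
  exact ⟨key2 _ (by norm_num), key _ (by norm_num) _ _ rfl, key _ (by norm_num) _ _ rfl,
    key _ (by norm_num) _ _ (key2 _ (by norm_num)), key _ (by norm_num) _ _ rfl,
    key _ (by norm_num) _ _ (key2 _ (by norm_num)), key _ (by norm_num) _ _ rfl⟩

theorem card_cent_M24 {σ : M24} {c : ℕ} (hc : code σ = c) :
    Nat.card ↥𝐂[σ] = searchCount (okT c c) (fun d => Nat.beq (mul d c) (mul c d)) Ls24 oneC [] := by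
  subst hc
  rw [← chain0.card_eq_searchCount _ _ (((↑) : M24 → Equiv.Perm GolayPt) '' (𝐂[σ] : Subgroup M24))]
  · rw [Set.ncard_image_of_injective _ Subtype.val_injective]; rfl
  · rintro _ ⟨g, hg, rfl⟩
    have e : g.1 * σ.1 = σ.1 * g.1 := congrArg Subtype.val (mem_cent1_iff.1 hg)
    exact ⟨g.2, fixes_nil _, pass_okT e, commute_iff_code.1 e⟩
  · exact fun g hg _ e => ⟨⟨g, hg⟩, mem_cent1_iff.2 (Subtype.ext (commute_iff_code.2 e)), rfl⟩

theorem not_conj_M24 {σ τ : M24} {c d : ℕ} (hc : code σ = c) (hd : code τ = d)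
    (h : searchAll (okT c d) (fun x => !(Nat.beq (mul x c) (mul d x))) Ls24 oneC [] = true)
    (g : M24) : g * σ ≠ τ * g := fun e => by
  subst hc hd
  replace e : g.1 * σ.1 = τ.1 * g.1 := congrArg Subtype.val e
  have := chain0.forall_of_searchAll h g.2 (fixes_nil _) (pass_okT e)
  rw [← code_mul, ← code_mul, e] at this
  simp at this

/-- `F` computes the action of `g` on packed vectors -/
def Rep (g : Co0) (F : ℕ → ℕ → ℤ) : Prop :=
  ∀ U (v : LL), (v : ZV) = vec U → ((g • v : LL) : ZV) = fun p => F U (ix p)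

/-- action of a matrix -/
def repM (M U i : ℕ) : ℤ := Int.ediv (dz (fld 192 M i) U) 8

theorem rep_coM {M N : ℕ} (h : ckM M N = true) : Rep (coM h) (repM M) := fun U v hv => by
  rw [coM_smul, hv, funext_iff]
  intro p
  rw [fM, mat_mulVec]; rfl

/-- action of a monomial matrix -/
def repN (s d U i : ℕ) : ℤ := Bool.rec (vz U (ap d i)) (Int.neg (vz U (ap d i))) (tb s i)

/-- a monomial element -/
noncomputable def coN (s : ℕ) {d : ℕ} (h : inM24 d = true) : Co0 := sgC (fs s) * pmC (m24 h)⁻¹

theorem rep_coN {s d : ℕ} (hs : isCode s = true) (h : inM24 d = true) : Rep (coN s h) (repN s d) := fun U v hv => by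
  funext p
  rw [coN, mul_smul, sgC_smul (fs_mem_CW hs), pmC_smul, hv, repN, tb_eq, sg, pm, vec]
  have : ix (((m24 h)⁻¹ : M24).1⁻¹ p) = ap d (ix p) := by
    have := ap_code_ix (m24 h).1 p
    rw [code_m24] at this
    rw [this]; simp
  rw [this]
  by_cases e : s.testBit (ix p) = true
  · rw [if_pos (mem_fs.2 e), e]; rfl
  · rw [if_neg (fun k => e (mem_fs.1 k)), Bool.eq_false_iff.2 e]

theorem coN_mem (s : ℕ) {d : ℕ} (hs : isCode s = true) (h : inM24 d = true) : coN s h ∈ N0 :=
  ⟨_, fs_mem_CW hs, _, rfl⟩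

theorem coN_cent {s d : ℕ} (hs : isCode s = true) (h : inM24 d = true) {σ : M24} {c : ℕ} (hc : code σ = c)
    (e : (Nat.beq (apM c s) s && Nat.beq (mul d c) (mul c d)) = true) : coN s h ∈ 𝐂[pmC σ] := by
  subst hc
  rw [Bool.and_eq_true] at e
  refine mul_mem (mem_cent1_comm.1 (mem_cent1_iff.2 (mul_inv_eq_iff_eq_mul.1 ?_))) ?_
  · rw [pmC_conj_sgC σ (fs_mem_CW hs), smul_fs _ (isCode_lt hs), beq_iff.1 e.1]
  · rw [map_inv]
    refine inv_mem (mem_cent1_iff.2 ?_)
    rw [← map_mul, ← map_mul]
    congr 1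
    exact Subtype.ext (commute_iff_code.2 (by rw [code_m24]; exact e.2))

theorem Rep.mul {g h : Co0} {F F' : ℕ → ℕ → ℤ} (h1 : Rep g F) (h2 : Rep h F') {U W : ℕ} {v : LL}
    (hv : (v : ZV) = vec U) (e : vec W = fun p => F' U (ix p)) :
    (((g * h) • v : LL) : ZV) = fun p => F W (ix p) := by
  rw [mul_smul]; exact h1 W _ ((h2 U v hv).trans e.symm)

/-- breadth-first certificates -/
theorem bfs_sound {P : ℕ → Prop} {act : ℕ → ℕ → ℕ} {K : ℕ} (hP : ∀ k < K, ∀ m, P m → P (act k m))
    {e j k : ℕ → ℕ} {n : ℕ} (h0 : P (e 0))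
    (h : allLt (fun t => Nat.beq t 0 || (Nat.blt (j t) t && Nat.blt (k t) K &&
      Nat.beq (act (k t) (e (j t))) (e t))) n = true) : ∀ t < n, P (e t) := by
  intro t
  induction t using Nat.strong_induction_on with
  | _ t ih =>
    intro ht
    have := allLt_iff.1 h t ht
    simp only [Bool.or_eq_true, Bool.and_eq_true, beq_iff, blt_iff] at this
    rcases this with rfl | ⟨⟨h1, h2⟩, h3⟩
    · exact h0
    · exact h3 ▸ hP _ h2 _ (ih _ h1 (h1.trans ht))

end CA.Co
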