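import Cfsg.Agent.Lib.Co.Calc
import Cfsg.Agent.Lib.Co.Odd
import Cfsg.Agent.Lib.Co.TopAbs

/-!
Traces, conjugacy of monomial involutions in `Co1`.
-/

set_option autoImplicit false
set_option maxRecDepth 100000

namespace CA.Co
open Cfsg CA.Gol CA Subgroup
open scoped Pointwise Matrix

/-- eight times the trace -/
noncomputable def tr (g : Co0) : ℤ := ∑ p, (g • E8 p : LL).1 p

theorem inv_E8 (g : Co0) (p q : GolayPt) : (g⁻¹ • E8 p : LL).1 q = (g • E8 q : LL).1 p := by
  have := co_dot g (g⁻¹ • E8 p) (E8 q)
  rw [smul_inv_smul, coe_E8, coe_E8, dot_e8, dot_comm, dot_e8] at this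
  omega

theorem tr_mul (g h : Co0) : 8 * tr (g * h) = ∑ p, ∑ q, (h • E8 p : LL).1 q * (g • E8 q : LL).1 p := by
  rw [tr, Finset.mul_sum]
  refine Finset.sum_congr rfl fun p _ => ?_
  have := co_dot g⁻¹ ((g * h) • E8 p) (E8 p)
  rw [coe_E8, dot_e8, ← mul_smul, inv_mul_cancel_left] at this
  rw [← this, dotInt]
  exact Finset.sum_congr rfl fun q _ => by rw [inv_E8]

theorem tr_comm (g h : Co0) : tr (g * h) = tr (h * g) := by
  have h1 := tr_mul g h
  have h2 := tr_mul h g
  rw [Finset.sum_comm] at h2
  simp only [mul_comm] at h1 h2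
  omega

theorem tr_conj (k g : Co0) : tr (k * g * k⁻¹) = tr g := by rw [tr_comm, inv_mul_cancel_left]

theorem tr_neg (g : Co0) : tr (negC * g) = -tr g := by
  simp only [tr, mul_smul, negC_smul, ← Finset.sum_neg_distrib]; rfl

theorem tr_mono {c : Finset GolayPt} (hc : c ∈ CW) (σ : M24) :
    tr (sgC c * pmC σ) = 8 * (fixS σ.1).card - 16 * (c ∩ fixS σ.1).card := by
  rw [tr, ← sum_iz, ← sum_iz, Finset.mul_sum, Finset.mul_sum, ← Finset.sum_sub_distrib]
  refine Finset.sum_congr rfl fun p _ => ?_
  rw [mono_E8 hc]
  by_cases h : σ.1 p = p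
  · rw [h]; by_cases h2 : p ∈ c <;> simp [e8_apply, iz, h, h2]
  · simp [e8_apply, iz, h, Ne.symm h]

theorem tr_sgC {c : Finset GolayPt} (hc : c ∈ CW) : tr (sgC c) = 192 - 16 * c.card := by
  have := tr_mono hc 1
  rw [map_one, mul_one] at this
  simpa [fixS, card_golayPt] using this

theorem lift_conj {g h : Co0} (e : IsConj (g : Spor.Co1) h) :
    ∃ k : Co0, h = k * g * k⁻¹ ∨ h = negC * (k * g * k⁻¹) := by
  obtain ⟨k, hk⟩ := isConj_iff.1 e
  obtain ⟨k, rfl⟩ := QuotientGroup.mk_surjective k
  exact ⟨k, mk_eq_iff.1 hk⟩

theorem tr_of_conj {g h : Co0} (e : IsConj (g : Spor.Co1) h) : tr h = tr g ∨ tr h = -tr g := by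
  obtain ⟨k, rfl | rfl⟩ := lift_conj e
  · exact Or.inl (tr_conj _ _)
  · exact Or.inr (by rw [tr_neg, tr_conj])

theorem neg_sq (g : Co0) : negC * g * (negC * g) = g * g := by
  rw [mul_assoc, ← mul_assoc g, negC_comm g, ← mul_assoc, ← mul_assoc, negC_sq, one_mul]

theorem sq_of_conj {g h : Co0} (e : IsConj (g : Spor.Co1) h) : ∃ k : Co0, h * h = k * (g * g) * k⁻¹ := by
  obtain ⟨k, rfl | rfl⟩ := lift_conj e
  · exact ⟨k, conj_mul⟩
  · exact ⟨k, by rw [neg_sq, conj_mul]⟩

theorem conj_of_comm {k g h : Co0} (e : k * g = h * k) : IsConj (h : Spor.Co1) g :=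
  (isConj_iff.2 ⟨k, by rw [← QuotientGroup.mk_mul, e]; simp⟩ : IsConj (g : Spor.Co1) h).symm

theorem mk_sgC_compl {c : Finset GolayPt} (hc : c ∈ CW) (g : Co0) :
    ((sgC (Finset.univ \ c) * g : Co0) : Spor.Co1) = (sgC c * g : Co0) := by
  rw [← negC_mul_sgC hc, mul_assoc, mk_negC_mul]

theorem conj_sgC {c d : Finset GolayPt} (hc : c ∈ CW) {σ : Equiv.Perm GolayPt} (hσ : σ ∈ M24) (e : σ • c = d) :
    IsConj ((sgC c : Co0) : Spor.Co1) (sgC d : Co0) :=
  (conj_of_comm (k := pmC ⟨σ, hσ⟩) (by rw [pmC_mul_sgC _ hc, e])).symm

theorem conj_octad {O O' : Finset GolayPt} (h : O ∈ octads) (h' : O' ∈ octads) :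
    IsConj ((sgC O : Co0) : Spor.Co1) (sgC O' : Co0) := by
  obtain ⟨σ, h1, h2⟩ := octad_trans h h'; exact conj_sgC h.1 h1 h2

theorem conj_dod {O O' : Finset GolayPt} (h : O ∈ dodecads) (h' : O' ∈ dodecads) :
    IsConj ((sgC O : Co0) : Spor.Co1) (sgC O' : Co0) := by
  obtain ⟨σ, h1, h2⟩ := dodecad_trans h h'; exact conj_sgC h.1 h1 h2

/-! ### Matrix identities -/

theorem coM_E8 {M N : ℕ} (h : ckM M N = true) (p q : GolayPt) : (coM h • E8 q : LL).1 p = mat M p q := by
  rw [coM_smul, fM, coe_E8, Matrix.mulVec]
  have := dot_e8 (mat M p) q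
  rw [show mat M p ⬝ᵥ e8 q = dotInt (mat M p) (e8 q) from rfl, this]; omega

/-- the matrix intertwines two monomial elements -/
def ckMI (M c s e t : ℕ) : Bool := allLt (fun p => force (fld 192 M p) fun a => force (ap t p) fun p' =>
  force (fld 192 M p') fun b => allLt (fun q => force (ap s q) fun q' =>
    Bool.rec (Nat.beq (fld 8 b q') (fld 8 a q)) (Nat.beq (Nat.add (fld 8 b q') (fld 8 a q)) 256)
      (xor (tb c q') (tb e p'))) 24) 24

theorem coM_mono {M N : ℕ} (h : ckM M N = true) {σ τ : M24} {c e : ℕ} (hc : isCode c = true) (he : isCode e = true)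
    (hI : ckMI M c (code σ) e (code τ) = true) :
    coM h * (sgC (fs c) * pmC σ) = sgC (fs e) * pmC τ * coM h := by
  simp only [ckMI, force_eq, allLt_iff] at hI
  refine co_ext8 fun q => Subtype.ext (funext fun p => ?_)
  obtain ⟨p, rfl⟩ := τ.1.surjective p
  have e1 : (sgC (fs c) * pmC σ) • E8 q = (if σ.1 q ∈ fs c then -1 else 1 : ℤ) • E8 (σ.1 q) :=
    Subtype.ext (mono_E8 (fs_mem_CW hc) σ q)
  rw [mul_smul, e1, co_zsmul, mul_smul _ (coM h), mono_smul (fs_mem_CW he), coM_E8]
  change (if σ.1 q ∈ fs c then -1 else 1 : ℤ) * (coM h • E8 (σ.1 q) : LL).1 (τ.1 p) = _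
  rw [coM_E8]
  have := hI _ (ix_lt p) _ (ix_lt q)
  rw [ap_code_ix, ap_code_ix, tb_eq, tb_eq] at this
  simp only [mat, vec, vz_eq, mem_fs]
  cases h1 : c.testBit (ix (σ.1 q)) <;> cases h2 : e.testBit (ix (τ.1 p)) <;> rw [h1, h2] at this <;>
    have := beq_iff.1 this <;> (try simp only [Nat.add_eq] at this) <;> simp <;> omega

/-- iterate a matrix -/
def itP (M n : ℕ) (k : ℕ → Bool) : ℕ → Bool := Nat.rec k (fun _ ih U => pk (repM M U) ih) n

theorem itP_spec {M N : ℕ} (h : ckM M N = true) {k : ℕ → Bool} (n : ℕ) : ∀ (U : ℕ) (v : LL), (v : ZV) = vec U →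
    itP M n k U = true → ∃ W, k W = true ∧ ((coM h ^ n • v : LL) : ZV) = vec W := by
  induction n with
  | zero => exact fun U v hv e => ⟨U, e, by simpa using hv⟩
  | succ n ih =>
    intro U v hv e
    obtain ⟨W, h1, h2⟩ := pk_spec (show pk (repM M U) (itP M n k) = true from e)
    obtain ⟨W', h3, h4⟩ := ih W (coM h • v) ((rep_coM h U v hv).trans h2.symm) h1
    exact ⟨W', h3, by rw [pow_succ, mul_smul, h4]⟩

theorem coM_pow {M N n : ℕ} (h : ckM M N = true)
    (e : allLt (fun i => pk (fun j => Bool.rec 0 8 (Nat.beq j i)) fun U => itP M n (Nat.beq U) U) 24 = true) :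
    coM h ^ n = 1 := co_ext8 fun p => Subtype.ext (by
  obtain ⟨U, h1, h2⟩ := pk_spec (allLt_iff.1 e _ (ix_lt p))
  have hv : (E8 p : ZV) = vec U := by
    rw [h2]; funext q
    rw [coe_E8, e8_apply]
    by_cases k : q = p
    · rw [if_pos k, k, beq_iff.2 rfl]
    · rw [if_neg k, beq_false_iff.2 fun e => k (ix_inj e)]
  obtain ⟨W, h3, h4⟩ := itP_spec h n U _ hv h1
  rw [h4, one_smul, hv, beq_iff.1 h3])

/-! ### Classes of monomial involutions -/

/-- every `c` fixed modulo `1` by `s` is equivalent to `0` or `r` -/
def ckCl (s r : ℕ) (ts ds : List ℕ) : Bool :=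
  allL ts (fun t => inM24 t && Nat.beq (mul t s) (mul s t)) && allL ds isCode &&
  allLt (fun i => force (enc i) fun m => force (apM s m) fun m' =>
    !(Nat.beq m' m || Nat.beq m' (Nat.xor m 16777215)) || anyL ts fun t => force (apM t m) fun u =>
      anyL ds fun d => force (Nat.xor (Nat.xor d u) (apM s d)) fun w =>
        Nat.beq w 0 || Nat.beq w 16777215 || Nat.beq w r || Nat.beq w (Nat.xor r 16777215)) 4096

theorem ckCl_spec {σ : M24} {r : ℕ} {ts ds : List ℕ} (h : ckCl (code σ) r ts ds = true) (hr : isCode r = true)
    {c : Finset GolayPt} (hc : c ∈ CW) (e : σ.1 • c = c ∨ σ.1 • c = Finset.univ \ c) :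
    IsConj ((sgC ∅ * pmC σ : Co0) : Spor.Co1) (sgC c * pmC σ : Co0) ∨
      IsConj ((sgC (fs r) * pmC σ : Co0) : Spor.Co1) (sgC c * pmC σ : Co0) := by
  simp only [ckCl, Bool.and_eq_true, allL_iff, allLt_iff, force_eq, Bool.or_eq_true, Bool.not_eq_true',
    anyL_iff, beq_iff] at h
  obtain ⟨⟨h1, h2⟩, h3⟩ := h
  obtain ⟨i, hi, rfl⟩ := exists_enc hc
  have hm := enc_lt hi
  rcases h3 i hi with k | ⟨t, ht, d, hd, k⟩
  · rw [← fs_compl, smul_fs_eq_iff _ hm hm, smul_fs_eq_iff _ hm (xor_lt hm (by norm_num))] at e
    rw [← Bool.not_eq_true, Bool.or_eq_true, beq_iff, beq_iff] at k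
    exact absurd e k
  have hd' := fs_mem_CW (h2 d hd)
  have hτ : m24 (h1 t ht).1 * σ = σ * m24 (h1 t ht).1 :=
    Subtype.ext (commute_iff_code.2 (by rw [code_m24]; exact beq_iff.2 (h1 t ht).2))
  have key : IsConj ((sgC (fs (Nat.xor (Nat.xor d (apM t (enc i))) (apM (code σ) d))) * pmC σ : Co0) : Spor.Co1)
      (sgC (fs (enc i)) * pmC σ : Co0) := by
    refine conj_of_comm (k := sgC (fs d) * pmC (m24 (h1 t ht).1)) ?_
    have a1 := smul_mem_CW (m24 (h1 t ht).1).2 hc
    have a2 := smul_fs (m24 (h1 t ht).1).1 hm
    rw [code_m24] at a2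
    rw [fs_xor, fs_xor, ← a2, ← smul_fs _ (isCode_lt (h2 d hd)),
      mono_mul hd' hc, mono_mul (symmDiff_mem_CW (symmDiff_mem_CW hd' a1) (smul_mem_CW σ.2 hd')) hd', hτ,
      symmDiff_symmDiff_cancel_right]
  rcases k with ((k | k) | k) | k <;> rw [k] at key
  · exact Or.inl (by rwa [fs_zero] at key)
  · exact Or.inl (by rwa [fs_full, ← Finset.sdiff_empty (s := Finset.univ), mk_sgC_compl empty_mem_CW] at key)
  · exact Or.inr key
  · exact Or.inr (by rwa [fs_compl, mk_sgC_compl (fs_mem_CW hr)] at key)

noncomputable def sA : M24 := m24 r2A_in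
noncomputable def sB : M24 := m24 r2B_in
theorem code_sA : code sA = r2A := code_m24 _
theorem code_sB : code sB = r2B := code_m24 _

def mA : ℕ := 0x8480808080808080807c808080808080808080807c8080848080808080808080808080848484848080808080808080808080808080808480808080808080808080808480807c7c808080808080808480808080808080808080808480808484808080807c80848080848080808080807c80808080808080808080808080808480808080808080808080807c80807c848084808080808080808084808080808080808080807c80807c80808084808480807c8080808080807c80808080808080808080808480848080848080808080808480808080808080807c808080808080808084808080808080808080807c8080848080808080808480808080808080808080807c8080847c8080807c807c808084808084808080808080808080808080808080808080808080808080847c847c808080808080808080808084807c80808480807c80808080808080808080808080808080808080808080808084847c7c8080808080808080808080807c808480807c80808080808084808080808080808080807c808480808480807c808080808080808080808080808080808080808080808080847c7c848080808080808080807c80808080808080807c808080808080808080807c80807c808084808480808480808480808080808080808080808080808480808080808080808080808080807c84807c80808080808480808080808080808080808080807c7c80848080808080848080808080808080808080808080848480848080808080848080808080808080808080808080847c807c80808080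
def mA' : ℕ := 0x8480808080808480807c80808080808080807c808080808080808080808080808080808080808080808080808484848480808080808080808080807c808480807c80808480808080808080807c808084848080808080807c808080808080808080808080808080808080807c807c80808480808480808080808080808480808484808080808080848080808080808080808084848084808080808480808080808080808080808080808080808080808080808084808480808480808480808080808080808480807c848080808080807c80808080808080807c80808080808480808480808080808080807c8080808080808080808080808080808084807c80807c808084808080808084808080808080808080808480848080848080808080808084808080808080808080807c808480807c80808080808080848080808080808080808084807c80807c8080808080808084808080808080808080807c807c808084808080808080808080807c80807c8480808080808084808080808080808080808080808080808080808080808080808080807c7c84848080808080808080808080808080808080808080847c847c80808484807c808080807c8080808080808080808080808080808080808080808080808080808080808080807c84847c7c80808080807c80807c80808080808080807c808080808080807c84807c80808080848080808080808080808080808080807c848084808080807c808080808080808080808080808480808080807c80808480808080808080807c8080808080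
def mB : ℕ := 0x808080808080808480808080808080808080807c807c848080808084808084808080808080808480808080808480808080808080808080807c848080807c808080808480808080808080808080808080848480808084808080808480808080808080808084808080808080847c808080807c808080808080808080808080808084848080807c808080807c8080808080808080808080808480808080808080808080807c80847c80808080807c8080808080808484808080807c8080808080808080808084808080808080848480808080848080808080808080808080808084808080808080808080808084807c7c8080808080808080807c8480808084808080807c8080808080848480808080808080807c8080808080808080808080807c8080807c808084808080808080808480808080807c808080847c80808080808080807c8080808080808080808080808480808084808084808080808080807c80808080807c808080808080807c808080808080847c80808080848080808080807c8480808080808080807c808080808080808080808080848080807c808084808080808080807c8080808080848080808080808080808084808080808080808080808084808484807c7c80808080808080807c8080808080808080808080807c80807c8080848080808080808080807c848080808080808080807c808084808080808080808080847c808080808080808080848080848080808080808080808484808080808080808080848080848080808080808080807c7c80808080808080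
def mB' : ℕ := 0x808080808080808080808084808480807c80807c80808080808080808080808080808084807c80808480807c8080808080808080808080808080808080808080808080807c7c84848084808080808080808080807c808480807c808080808080808080808480807c848080808080807c808080808080808080808080808080808080808080808080808080808484848480848080808080808080808084808480808480808080808084808080808084808084808080808080808084808080808080807c848084808080807c8080808080808080808080808080808484808480808080848080808080808080808080808080808080808080808080807c807c80807c80807c80808080808080808480808484808080808080848080808080808080808080807c808084848080808080807c808080808080808080807c84807c80808080848080808080808080808080808080848080808080808080808084807c80807c80808080808080808080808080808080808080808080808080807c84847c8080808080808080808080808080808080808080847c847c808080807c80807c8480808080808084808080808080808080808484807c808080807c808080808080808080808080807c80808080807c80808480808080808080808480808080808084808080808080808080807c807c8080848080808080807c80808080808480807c80808080808080808480808080808480808080807c80807c808080808080808084808080808080808080808080808080807c808480808480807c80808080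
def mY : ℕ := 0x808080807e8480828084807e7e80808080828082807e8280808084807e8080828080807e82808080807e848280827e8082827e7e807e7e807e828280807e7e82828082808280807e808080807e807c8280807c827e8080808082807e80827e807e828282808282807e7e7e80807e7e8282807e808280807e827e827e807e82807e827e80808282827e807e808280807e848080848280807e8080807e7e8080808082808280827e80808080808284807e8084808282808080807e807e80827e80807c80807e80807e8080807e7e807c80807e807e807e7e80808080807e80807e8080807e828080808082807e8482828480808080828080827c80807e8280807c8082807e807e7e808282827e80827e80827e828080827e7e7e807e808280807e82827e7e808282807e7e7e8080827e827e8082807e808082848080847e8080828080808282808080807e807e807e8280808080807e80807e8080807e828080808082807e7c82827c7e827e82807e828082827e8080827e7e7e8082808280807e7e7e7e8280827e807e7e8280808282827e8082808280807e7e828282807e7e807e82828080827e827e807e807e8080828080808082807c7e80807c7e82808080807e8082807e828080808080828080828080807e7e848080847e807e80828280808480807e80807e8080807e7e808480807e807e807e7e80808084808280807e808080827e8080808082847e807e828080808080828080828480807e828080848082807e807e7e8080808080828080828080807e7e7c80807c7e807e80828280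
def mY' : ℕ := 0x808082807e828480808080828284807e7e7e80808080808080808280827e80807c808082828080827e8280808480808080847e8082828080808080827e80807e7e8280808084808080807e80827e84808080807e7e84808282828080808080807e7e807e808082827e7e8280807e7e80808082827e82828284807e80827e8084808080828280807e827e80808080808080807e7c828280808080807e828080827e7e7c80808080808282808280807e7e7e7e828080827e8080807e827e7e828280807e807e7e808080807c827e8080827e7e808080808480848082807e8280848080807e7e8080827e828080808080808080827c7e7e8080808080827e80807e82827c80808080807e7e808280807e827e7e7e8080827e8080807e7e7e827e7e7e82807e80807e827e828280808282808080827e7e7e827e80807e807e8280808080808282808082828280848080807c80807e807e8280807c80807e7e80807e827e808084808080808082808282808080807c7e8280807e828280808080848080808280827e80808080807e7e80807e7e7e80848080807c827e80828080827e7e828280807e828080807e7e7e82827e808482807e7e80808080807e82808082827e8080808480808282807e8080827e7e7e7e80807e7e808080827e7e7e7e7e8080828082828080808480827e807c82827e8080808080807e828082808082827e827e80807e828080807e827e7e7e82827e807e80807e7e7e827e8080828280808082827e827e8280807e807e7e80808084807e82807c7e7e82808080808080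
theorem mA_ok : ckM mA mA' = true := by decide +kernel
theorem mB_ok : ckM mB mB' = true := by decide +kernel
theorem mY_ok : ckM mY mY' = true := by decide +kernel

/-- the lift of the third class of involutions -/
noncomputable def b2C : Co0 := sgC (fs 0x27706d) * pmC sB

theorem b2C_sq : b2C * b2C = negC := by
  have h : fs 0x27706d ∈ CW := fs_mem_CW (by decide +kernel)
  have e : sB * sB = 1 := Subtype.ext (code_inj (by
    rw [coe_mul, code_mul, code_sB, coe_one, code_one]; decide +kernel))
  rw [b2C, mono_mul h h, e, map_one, mul_one, smul_fs _ (by norm_num), code_sB, ← fs_xor, negC, ← fs_full]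
  congr 2
  decide +kernel

theorem exists_13 : ∃ y : Spor.Co1, y ≠ 1 ∧ y * b2C = b2C * y ∧ y ^ 13 = 1 := by
  have h1 : coM mY_ok ^ 13 = 1 := coM_pow mY_ok (by decide +kernel)
  refine ⟨coM mY_ok, fun e => ?_, ?_, by rw [← QuotientGroup.mk_pow, h1]; rfl⟩
  · have := coM_E8 mY_ok (pt 0) (pt 1)
    rcases mk_eq_one_iff.1 e with e | e <;> rw [e] at this
    · rw [one_smul] at this; revert this; decide +kernel
    · rw [negC_smul] at this; revert this; decide +kernel
  · rw [← QuotientGroup.mk_mul, ← QuotientGroup.mk_mul, b2C,
      coM_mono mY_ok (e := 0x27706d) (τ := sB) (by decide +kernel) (by decide +kernel) (by rw [code_sB]; decide +kernel)]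

theorem cls_mono {O T : Finset GolayPt} (hO : O ∈ octads) (hT : T ∈ dodecads) {x : Spor.Co1} (hx : x ∈ N1)
    (h2 : x * x = 1) (h1 : x ≠ 1) :
    IsConj ((sgC O : Co0) : Spor.Co1) x ∨ IsConj (b2C : Spor.Co1) x ∨ IsConj ((sgC T : Co0) : Spor.Co1) x := by
  obtain ⟨c, hc, σ, rfl⟩ := mem_N1.1 hx
  rw [← QuotientGroup.mk_mul, mono_mul hc hc, show (1 : Spor.Co1) = (sgC ∅ * pmC 1 : Co0) by
    rw [sgC_empty, map_one, mul_one]; rfl] at h2
  obtain ⟨e1, e2⟩ := mk_mono_inj empty_mem_CW (symmDiff_mem_CW hc (smul_mem_CW σ.2 hc)) h2.symm
  replace e2 : σ.1 • c = c ∨ σ.1 • c = Finset.univ \ c := by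
    rcases e2 with e | e
    · exact Or.inl (symmDiff_eq_bot.1 e).symm
    · refine Or.inr ?_
      rw [compl_eq_symmDiff, ← Finset.sdiff_empty (s := Finset.univ), ← e, symmDiff_symmDiff_cancel_left]
  by_cases hσ : σ = 1
  · subst hσ
    rw [map_one, mul_one] at h1 ⊢
    rcases card_CW hc with k | k | k | k | k
    · exact absurd (by rw [Finset.card_eq_zero.1 k, sgC_empty]; rfl) h1
    · exact Or.inl (conj_octad hO ⟨hc, k⟩)
    · exact Or.inr (Or.inr (conj_dod hT ⟨hc, k⟩))
    · have := mk_sgC_compl hc 1
      rw [mul_one, mul_one] at this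
      exact Or.inl (this ▸ conj_octad hO (compl_mem_octads hc k))
    · exact absurd (by rw [Finset.eq_univ_of_card _ (k.trans card_golayPt.symm)]; exact mk_eq_one_iff.2 (Or.inr rfl)) h1
  have ho : orderOf σ.1 = 2 := by
    rw [orderOf_coe]; exact orderOf_eq_prime (by rw [sq, e1]) hσ
  obtain ⟨k, hk, e⟩ := class_two σ.2 ho
  have hc' := smul_mem_CW hk hc
  have a1 : IsConj ((sgC (k • c) * pmC (⟨k, hk⟩ * σ * ⟨k, hk⟩⁻¹) : Co0) : Spor.Co1) (sgC c * pmC σ : Co0) :=
    conj_of_comm (k := pmC ⟨k, hk⟩) (by
      rw [← mul_assoc, pmC_mul_sgC _ hc, mul_assoc, mul_assoc, ← map_mul, ← map_mul, inv_mul_cancel_right])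
  have a2 : (k * σ * k⁻¹) • k • c = k • c ∨ (k * σ * k⁻¹) • k • c = Finset.univ \ k • c := by
    rw [← mul_smul, inv_mul_cancel_right, mul_smul]
    exact e2.imp (congrArg _) fun e => by rw [e, smul_sdiff, smul_univ]
  have one : ∀ e, sgC e = sgC e * pmC 1 := fun e => by rw [map_one, mul_one]
  rcases e with e | e
  · have e' : ⟨k, hk⟩ * σ * ⟨k, hk⟩⁻¹ = sA := Subtype.ext e
    rw [e'] at a1
    rcases ckCl_spec (σ := sA) (r := 0x3da100) (ts := [0xbdab49ca307b9ac5a928398a418820, 0xbd5d41a1a7558d25a5ec2c61320820, 0xb94ec329ae4586f4ae54ace1120820, 0xb9a2f2adb34daac42a921ba0720820, 0xb8e72aa5b15d8b45218f31e0e20820, 0xb8aa99c8f1590b44298f834c1b0dc0, 0xbb674ab064796d24292b31dd088820]) (ds := [0x0, 0xc75001, 0x49f002, 0x8ea003, 0xd4b004, 0x13e005, 0x9d4006, 0x5a1007, 0xecc040, 0x2b9041, 0xa53042, 0x626043, 0x387044, 0xff2045, 0x718046, 0xb6d047]) (by rw [code_sA]; decide +kernel)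
      (by decide +kernel) hc' (by rw [← e']; exact a2) with b | b
    · refine Or.inl (((conj_octad hO (fs_mem_octads (m := 0x66489) (by decide +kernel))).trans ?_).trans (b.trans a1))
      rw [← fs_zero, one (fs 0x66489)]
      exact conj_of_comm (coM_mono mA_ok (by decide +kernel) (by decide +kernel)
        (by rw [code_sA, coe_one, code_one]; decide +kernel))
    · refine Or.inr (Or.inr (((conj_dod hT (fs_mem_dodecads (m := 0xff119) (by decide +kernel))).trans ?_).trans
        (b.trans a1)))
      rw [one (fs 0xff119)]
      exact conj_of_comm (coM_mono mA_ok (by decide +kernel) (by decide +kernel)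
        (by rw [code_sA, coe_one, code_one]; decide +kernel))
  · have e' : ⟨k, hk⟩ * σ * ⟨k, hk⟩⁻¹ = sB := Subtype.ext e
    rw [e'] at a1
    rcases ckCl_spec (σ := sB) (r := 0x27706d) (ts := [oneC]) (ds := [0x0, 0xc75001, 0x49f002, 0x8ea003, 0xd4b004, 0x13e005, 0x9d4006, 0x5a1007, 0x6e3008, 0xa96009, 0x27c00a, 0xe0900b, 0xba800c, 0x7dd00d, 0xf3700e, 0x34200f, 0xb66020, 0x713021, 0xff9022, 0x38c023, 0x62d024, 0xa58025, 0x2b2026, 0xec7027, 0xd85028, 0x1f0029, 0x91a02a, 0x56f02b, 0xce02c, 0xcbb02d, 0x45102e, 0x82402f, 0xecc040, 0x2b9041, 0xa53042, 0x626043, 0x387044, 0xff2045, 0x718046, 0xb6d047, 0x82f048, 0x45a049, 0xcb004a, 0xc504b, 0x56404c, 0x91104d, 0x1fb04e, 0xd8e04f, 0x5aa060, 0x9df061, 0x135062, 0xd40063, 0x8e1064, 0x494065, 0xc7e066, 0xb067, 0x349068, 0xf3c069, 0x7d606a, 0xba306b, 0xe0206c, 0x27706d, 0xa9d06e, 0x6e806f]) (by rw [code_sB]; decide +kernel)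
      (by decide +kernel) hc' (by rw [← e']; exact a2) with b | b
    · refine Or.inr (Or.inr (((conj_dod hT (fs_mem_dodecads (m := 0xa713c5) (by decide +kernel))).trans ?_).trans
        (b.trans a1)))
      rw [← fs_zero, one (fs 0xa713c5)]
      exact conj_of_comm (coM_mono mB_ok (by decide +kernel) (by decide +kernel)
        (by rw [code_sB, coe_one, code_one]; decide +kernel))
    · exact Or.inr (Or.inl (b.trans a1))

end CA.Co
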